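import Mathlib

/-!
# Half-transitive linear groups: definitions and the pseudocyclic identity (S3540)

`G` is a subgroup of `V ≃ₗ[ZMod p] V`; it acts on `V` by application (`MulAction`), so
`MulAction.stabilizer G v` and `MulAction.orbit G v` may be used.
-/

set_option autoImplicit false

open scoped Classical

namespace Cfsg.Agent.H828.HT

universe u

variable {p : ℕ} [Fact p.Prime] {V : Type u} [AddCommGroup V] [Module (ZMod p) V]

/-- All non-zero vectors have stabilisers of order `h`. -/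
def Half (G : Subgroup (V ≃ₗ[ZMod p] V)) (h : ℕ) : Prop :=
  ∀ v : V, v ≠ 0 → Nat.card (MulAction.stabilizer G v) = h

/-- fixed space of an element -/
def fx (g : V ≃ₗ[ZMod p] V) : Submodule (ZMod p) V :=
  LinearMap.ker ((g : V →ₗ[ZMod p] V) - LinearMap.id)

/-- commutator space `[V, g]` -/
def cm (g : V ≃ₗ[ZMod p] V) : Submodule (ZMod p) V :=
  LinearMap.range ((g : V →ₗ[ZMod p] V) - LinearMap.id)

@[simp] theorem mem_fx {g : V ≃ₗ[ZMod p] V} {v : V} : v ∈ fx g ↔ g v = v := by
  simp [fx, LinearMap.mem_ker, sub_eq_zero]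

theorem mem_cm {g : V ≃ₗ[ZMod p] V} {v : V} : v ∈ cm g ↔ ∃ w, g w = w + v := by
  simp only [cm, LinearMap.mem_range, LinearMap.sub_apply, LinearMap.id_apply,
    LinearEquiv.coe_coe, sub_eq_iff_eq_add]
  constructor
  · rintro ⟨w, h⟩
    exact ⟨w, by rw [h, add_comm]⟩
  · rintro ⟨w, h⟩
    exact ⟨w, by rw [h, add_comm]⟩

theorem smul_def (G : Subgroup (V ≃ₗ[ZMod p] V)) (g : G) (v : V) :
    g • v = (g : V ≃ₗ[ZMod p] V) v := rfl

theorem mem_stab {G : Subgroup (V ≃ₗ[ZMod p] V)} {g : G} {v : V} :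
    g ∈ MulAction.stabilizer G v ↔ (g : V ≃ₗ[ZMod p] V) v = v := Iff.rfl

/-- functionals fixed by `g` -/
def dfx (g : V ≃ₗ[ZMod p] V) : Submodule (ZMod p) (Module.Dual (ZMod p) V) :=
  (cm g).dualAnnihilator

theorem mem_dfx {g : V ≃ₗ[ZMod p] V} {f : Module.Dual (ZMod p) V} :
    f ∈ dfx g ↔ ∀ w, f (g w) = f w := by
  simp only [dfx, Submodule.mem_dualAnnihilator, cm, LinearMap.mem_range]
  constructor
  · intro h w
    have := h _ ⟨w, rfl⟩
    simpa [sub_eq_zero] using this
  · rintro h _ ⟨w, rfl⟩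
    simp [h w]

set_option linter.unusedSectionVars false

section fin

variable [Finite V]

instance finG : Finite (V ≃ₗ[ZMod p] V) :=
  Finite.of_injective (fun g : V ≃ₗ[ZMod p] V => (g : V → V)) DFunLike.coe_injective

instance finFD : Module.Finite (ZMod p) V := Module.Finite.of_finite

instance finD : Finite (Module.Dual (ZMod p) V) := Module.finite_of_finite (ZMod p)

theorem card_cm_mul (g : V ≃ₗ[ZMod p] V) :
    Nat.card (cm g) * Nat.card (fx g) = Nat.card V := by
  have e := ((g : V →ₗ[ZMod p] V) - LinearMap.id).quotKerEquivRange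
  rw [cm, fx, ← Nat.card_congr e.toEquiv, mul_comm]
  exact (Submodule.card_eq_card_quotient_mul_card _).symm

theorem card_eq_pow (W : Type*) [AddCommGroup W] [Module (ZMod p) W] [Finite W] :
    Nat.card W = p ^ Module.finrank (ZMod p) W := by
  have := Module.natCard_eq_pow_finrank (K := ZMod p) (V := W)
  rwa [Nat.card_zmod] at this

theorem card_dfx (g : V ≃ₗ[ZMod p] V) : Nat.card (dfx g) = Nat.card (fx g) := by
  have h1 := Subspace.finrank_add_finrank_dualAnnihilator_eq (cm g)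
  have h2 := card_cm_mul g
  rw [card_eq_pow (p := p), card_eq_pow (p := p), card_eq_pow (p := p) V, ← pow_add] at h2
  have h3 := Nat.pow_right_injective (Fact.out : p.Prime).two_le h2
  rw [card_eq_pow (p := p), card_eq_pow (p := p) (fx g)]
  congr 1
  change Module.finrank (ZMod p) (cm g).dualAnnihilator = _
  omega

theorem card_dual : Nat.card (Module.Dual (ZMod p) V) = Nat.card V := by
  rw [card_eq_pow (p := p), card_eq_pow (p := p) V, Subspace.dual_finrank_eq]

variable {G : Subgroup (V ≃ₗ[ZMod p] V)} {h : ℕ}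

/-- the stabiliser of a functional -/
def dst (G : Subgroup (V ≃ₗ[ZMod p] V)) (f : Module.Dual (ZMod p) V) : Subgroup G where
  carrier := {g | f ∈ dfx (g : V ≃ₗ[ZMod p] V)}
  one_mem' := by
    simp only [Set.mem_ofPred_eq, mem_dfx]
    intro w; rfl
  mul_mem' := by
    intro a b ha hb
    simp only [Set.mem_ofPred_eq, mem_dfx] at *
    intro w
    have : ((a * b : G) : V ≃ₗ[ZMod p] V) w = (a : V ≃ₗ[ZMod p] V) ((b : V ≃ₗ[ZMod p] V) w) := rfl
    rw [this, ha, hb]
  inv_mem' := by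
    intro a ha
    simp only [Set.mem_ofPred_eq, mem_dfx] at *
    intro w
    have : (a : V ≃ₗ[ZMod p] V) (((a⁻¹ : G) : V ≃ₗ[ZMod p] V) w) = w := by
      change ((a * a⁻¹ : G) : V ≃ₗ[ZMod p] V) w = w
      rw [mul_inv_cancel]; rfl
    rw [← ha, this]

theorem mem_dst {f : Module.Dual (ZMod p) V} {g : G} :
    g ∈ dst G f ↔ ∀ w, f ((g : V ≃ₗ[ZMod p] V) w) = f w := by
  change f ∈ dfx (g : V ≃ₗ[ZMod p] V) ↔ _
  exact mem_dfx

/-! ### Counting -/

noncomputable instance ftV : Fintype V := Fintype.ofFinite V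
noncomputable instance ftG (G : Subgroup (V ≃ₗ[ZMod p] V)) : Fintype G := Fintype.ofFinite G
noncomputable instance ftD : Fintype (Module.Dual (ZMod p) V) := Fintype.ofFinite _

theorem sum_card_fx (G : Subgroup (V ≃ₗ[ZMod p] V)) :
    ∑ g : G, Nat.card (fx (g : V ≃ₗ[ZMod p] V)) =
      ∑ v : V, Nat.card (MulAction.stabilizer G v) := by
  have h1 : ∀ g : G, Nat.card (fx (g : V ≃ₗ[ZMod p] V)) =
      ∑ v : V, if (g : V ≃ₗ[ZMod p] V) v = v then 1 else 0 := by
    intro g
    rw [Finset.sum_boole, Nat.cast_id, Nat.card_eq_fintype_card, Fintype.card_subtype]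
    congr 1
    ext v
    simp
  have h2 : ∀ v : V, Nat.card (MulAction.stabilizer G v) =
      ∑ g : G, if (g : V ≃ₗ[ZMod p] V) v = v then 1 else 0 := by
    intro v
    rw [Finset.sum_boole, Nat.cast_id, Nat.card_eq_fintype_card, Fintype.card_subtype]
    congr 1
  simp_rw [h1, h2]
  exact Finset.sum_comm

theorem sum_card_dfx (G : Subgroup (V ≃ₗ[ZMod p] V)) :
    ∑ g : G, Nat.card (dfx (g : V ≃ₗ[ZMod p] V)) =
      ∑ f : Module.Dual (ZMod p) V, Nat.card (dst G f) := by
  have h1 : ∀ g : G, Nat.card (dfx (g : V ≃ₗ[ZMod p] V)) =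
      ∑ f : Module.Dual (ZMod p) V, if f ∈ dfx (g : V ≃ₗ[ZMod p] V) then 1 else 0 := by
    intro g
    rw [Finset.sum_boole, Nat.cast_id, Nat.card_eq_fintype_card, Fintype.card_subtype]
  have h2 : ∀ f : Module.Dual (ZMod p) V, Nat.card (dst G f) =
      ∑ g : G, if f ∈ dfx (g : V ≃ₗ[ZMod p] V) then 1 else 0 := by
    intro f
    rw [Finset.sum_boole, Nat.cast_id, Nat.card_eq_fintype_card, Fintype.card_subtype]
    congr 1
  simp_rw [h1, h2]
  exact Finset.sum_comm

/-- in coprime characteristic a functional fixed by `X` does not vanish on the fixed vectors -/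
theorem exists_fixed (X : Subgroup (V ≃ₗ[ZMod p] V)) (hX : ¬ p ∣ Nat.card X)
    {f : Module.Dual (ZMod p) V} (hf : f ≠ 0) (h : ∀ g ∈ X, ∀ w, f (g w) = f w) :
    ∃ v, f v ≠ 0 ∧ ∀ g ∈ X, g v = v := by
  obtain ⟨w, hw⟩ : ∃ w, f w ≠ 0 := by
    by_contra hc
    push Not at hc
    exact hf (LinearMap.ext hc)
  refine ⟨∑ g : X, (g : V ≃ₗ[ZMod p] V) w, ?_, ?_⟩
  · rw [map_sum]
    have : ∀ g : X, f ((g : V ≃ₗ[ZMod p] V) w) = f w := fun g => h g g.2 w
    simp only [this, Finset.sum_const, Finset.card_univ, nsmul_eq_mul]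
    rw [← Nat.card_eq_fintype_card]
    refine mul_ne_zero ?_ hw
    rwa [Ne, ZMod.natCast_eq_zero_iff]
  · intro g hg
    rw [map_sum]
    exact Fintype.sum_equiv (Equiv.mulLeft (⟨g, hg⟩ : X)) _ _ (fun x => rfl)

theorem dst_le (hG : ¬ p ∣ Nat.card G) (hh : Half G h) {f : Module.Dual (ZMod p) V}
    (hf : f ≠ 0) : Nat.card (dst G f) ≤ h := by
  have hle : Nat.card ((dst G f).map G.subtype) ∣ Nat.card G := by
    rw [Nat.card_congr ((dst G f).equivMapOfInjective _ G.subtype_injective).toEquiv.symm]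
    exact Subgroup.card_subgroup_dvd_card _
  obtain ⟨v, hv, hv'⟩ := exists_fixed ((dst G f).map G.subtype)
    (fun hd => hG (hd.trans hle)) hf (by
      rintro _ ⟨g, hg, rfl⟩ w
      exact mem_dst.1 hg w)
  have hv0 : v ≠ 0 := by
    rintro rfl
    exact hv (map_zero f)
  rw [← hh v hv0]
  refine Subgroup.card_le_of_le ?_
  intro g hg
  exact hv' _ ⟨g, hg, rfl⟩

theorem dst_card (hG : ¬ p ∣ Nat.card G) (hh : Half G h) {f : Module.Dual (ZMod p) V}
    (hf : f ≠ 0) : Nat.card (dst G f) = h := by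
  have h1 := sum_card_fx G
  have h2 := sum_card_dfx G
  simp_rw [card_dfx] at h2
  rw [h1] at h2
  have e1 : ∑ v : V, Nat.card (MulAction.stabilizer G v) =
      Nat.card G + ∑ _v ∈ (Finset.univ.erase (0 : V)), h := by
    rw [← Finset.add_sum_erase _ _ (Finset.mem_univ (0 : V))]
    congr 1
    · have : MulAction.stabilizer G (0 : V) = ⊤ := by
        rw [eq_top_iff]
        intro g _
        exact map_zero (g : V ≃ₗ[ZMod p] V)
      rw [this, Subgroup.card_top]
    · exact Finset.sum_congr rfl (fun v hv => hh v (Finset.ne_of_mem_erase hv))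
  have e2 : ∑ f : Module.Dual (ZMod p) V, Nat.card (dst G f) =
      Nat.card G + ∑ f ∈ (Finset.univ.erase (0 : Module.Dual (ZMod p) V)),
        Nat.card (dst G f) := by
    rw [← Finset.add_sum_erase _ _ (Finset.mem_univ (0 : Module.Dual (ZMod p) V))]
    congr 1
    have : dst G (0 : Module.Dual (ZMod p) V) = ⊤ := by
      rw [eq_top_iff]
      intro g _
      rw [mem_dst]
      intro w; rfl
    rw [this, Subgroup.card_top]
  have e3 : ∑ _v ∈ (Finset.univ.erase (0 : V)), h =
      ∑ _f ∈ (Finset.univ.erase (0 : Module.Dual (ZMod p) V)), h := by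
    rw [Finset.sum_const, Finset.sum_const, Finset.card_erase_of_mem (Finset.mem_univ _),
      Finset.card_erase_of_mem (Finset.mem_univ _), Finset.card_univ, Finset.card_univ,
      ← Nat.card_eq_fintype_card, ← Nat.card_eq_fintype_card, card_dual]
  rw [e1, e2, e3] at h2
  have h3 := Nat.add_left_cancel h2
  have h4 := (Finset.sum_eq_sum_iff_of_le (s := Finset.univ.erase (0 : Module.Dual (ZMod p) V))
    (f := fun f => Nat.card (dst G f)) (g := fun _ => h)
    (fun f hf => dst_le hG hh (Finset.ne_of_mem_erase hf))).1 h3.symm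
  exact h4 f (Finset.mem_erase.2 ⟨hf, Finset.mem_univ _⟩)

/-- evaluation character `f ↦ ψ (f v)` on a space of functionals -/
noncomputable def ev (W : Submodule (ZMod p) (Module.Dual (ZMod p) V)) (v : V) :
    AddChar W ℂ :=
  (ZMod.stdAddChar (N := p)).compAddMonoidHom
    { toFun := fun f => (f : Module.Dual (ZMod p) V) v
      map_zero' := rfl
      map_add' := fun _ _ => rfl }

theorem sum_ev (W : Submodule (ZMod p) (Module.Dual (ZMod p) V)) (v : V) :
    ∑ f : Module.Dual (ZMod p) V, (if f ∈ W then (ZMod.stdAddChar (N := p)) (f v) else 0) =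
      if (∀ f ∈ W, f v = 0) then (Nat.card W : ℂ) else 0 := by
  rw [← Finset.sum_filter]
  have h1 : ∑ f ∈ Finset.univ.filter (fun f : Module.Dual (ZMod p) V => f ∈ W),
      (ZMod.stdAddChar (N := p)) (f v) = ∑ f : W, ev W v f := by
    exact Finset.sum_subtype (Finset.univ.filter (fun f : Module.Dual (ZMod p) V => f ∈ W))
      (p := fun f => f ∈ W) (by simp) (fun f => (ZMod.stdAddChar (N := p)) (f v))
  rw [h1, AddChar.sum_eq_ite]
  have h2 : (ev W v = 0) ↔ (∀ f ∈ W, f v = 0) := by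
    constructor
    · intro h f hf
      have := DFunLike.congr_fun h (⟨f, hf⟩ : W)
      have h3 : (ZMod.stdAddChar (N := p)) (f v) = 1 := this
      rw [← (ZMod.stdAddChar (N := p)).map_zero_eq_one, ZMod.injective_stdAddChar.eq_iff] at h3
      exact h3
    · intro h
      ext f
      change (ZMod.stdAddChar (N := p)) ((f : Module.Dual (ZMod p) V) v) = 1
      rw [h _ f.2, AddChar.map_zero_eq_one]
  by_cases h : ∀ f ∈ W, f v = 0
  · rw [if_pos (h2.2 h), if_pos h, Nat.card_eq_fintype_card]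
  · rw [if_neg (fun h' => h (h2.1 h')), if_neg h]

/-- **Pseudocyclic identity.** -/
theorem ident (hG : ¬ p ∣ Nat.card G) (hh : Half G h) {v : V} (hv : v ≠ 0) :
    (∑ g : G, if v ∈ cm (g : V ≃ₗ[ZMod p] V) then Nat.card (fx (g : V ≃ₗ[ZMod p] V)) else 0)
      + h = Nat.card G := by
  have key : (∑ g : G, (if v ∈ cm (g : V ≃ₗ[ZMod p] V) then
      (Nat.card (fx (g : V ≃ₗ[ZMod p] V)) : ℂ) else 0)) =
      (Nat.card G : ℂ) - h := by
    have h1 : ∀ g : G, (if v ∈ cm (g : V ≃ₗ[ZMod p] V) then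
        (Nat.card (fx (g : V ≃ₗ[ZMod p] V)) : ℂ) else 0) =
        ∑ f : Module.Dual (ZMod p) V, (if f ∈ dfx (g : V ≃ₗ[ZMod p] V) then
          (ZMod.stdAddChar (N := p)) (f v) else 0) := by
      intro g
      rw [sum_ev, card_dfx]
      congr 1
      rw [dfx, eq_iff_iff]
      exact (Subspace.forall_mem_dualAnnihilator_apply_eq_zero_iff _ _).symm
    rw [Finset.sum_congr rfl (fun g _ => h1 g), Finset.sum_comm]
    have h2 : ∀ f : Module.Dual (ZMod p) V,
        (∑ g : G, (if f ∈ dfx (g : V ≃ₗ[ZMod p] V) then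
          (ZMod.stdAddChar (N := p)) (f v) else 0)) =
        (Nat.card (dst G f) : ℂ) * (ZMod.stdAddChar (N := p)) (f v) := by
      intro f
      rw [← Finset.sum_filter, Finset.sum_const, nsmul_eq_mul, Nat.card_eq_fintype_card,
        Fintype.card_subtype]
      rfl
    rw [Finset.sum_congr rfl (fun f _ => h2 f),
      ← Finset.add_sum_erase _ _ (Finset.mem_univ (0 : Module.Dual (ZMod p) V))]
    have h3 : ∑ f ∈ Finset.univ.erase (0 : Module.Dual (ZMod p) V),
        (Nat.card (dst G f) : ℂ) * (ZMod.stdAddChar (N := p)) (f v) =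
        (h : ℂ) * ∑ f ∈ Finset.univ.erase (0 : Module.Dual (ZMod p) V),
          (ZMod.stdAddChar (N := p)) (f v) := by
      rw [Finset.mul_sum]
      exact Finset.sum_congr rfl (fun f hf => by
        rw [dst_card hG hh (Finset.ne_of_mem_erase hf)])
    have h4 : ∑ f : Module.Dual (ZMod p) V, (ZMod.stdAddChar (N := p)) (f v) = 0 := by
      have := sum_ev (⊤ : Submodule (ZMod p) (Module.Dual (ZMod p) V)) v
      simp only [Submodule.mem_top, if_true, true_imp_iff] at this
      rw [this, if_neg]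
      intro hc
      exact hv ((Module.forall_dual_apply_eq_zero_iff (ZMod p) v).1 hc)
    rw [← Finset.add_sum_erase _ _ (Finset.mem_univ (0 : Module.Dual (ZMod p) V))] at h4
    have h5 : (ZMod.stdAddChar (N := p)) ((0 : Module.Dual (ZMod p) V) v) = 1 := by
      rw [LinearMap.zero_apply, AddChar.map_zero_eq_one]
    rw [h5] at h4
    have h6 : dst G (0 : Module.Dual (ZMod p) V) = ⊤ := by
      rw [eq_top_iff]
      intro g _
      rw [mem_dst]
      intro w; rfl
    rw [h3, eq_neg_of_add_eq_zero_right h4, h5, h6, Subgroup.card_top]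
    ring
  have h7 : ((∑ g : G, if v ∈ cm (g : V ≃ₗ[ZMod p] V) then
      Nat.card (fx (g : V ≃ₗ[ZMod p] V)) else 0 : ℕ) : ℂ) + h = Nat.card G := by
    push_cast
    rw [key]
    ring
  exact_mod_cast h7

/-! ### Consequences; `m` is the common orbit length -/

theorem card_transporter {w u : V} (g₀ : G) (hg : (g₀ : V ≃ₗ[ZMod p] V) w = u) :
    Nat.card {g : G // (g : V ≃ₗ[ZMod p] V) w = u} =
      Nat.card (MulAction.stabilizer G w) := by
  refine Nat.card_congr ?_
  refine ⟨fun g => ⟨g₀⁻¹ * g.1, ?_⟩, fun g => ⟨g₀ * g.1, ?_⟩, ?_, ?_⟩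
  · rw [MulAction.mem_stabilizer_iff, mul_smul, inv_smul_eq_iff]
    exact g.2.trans hg.symm
  · have : (g₀ * g.1) • w = u := by
      rw [mul_smul, MulAction.mem_stabilizer_iff.1 g.2]
      exact hg
    exact this
  · intro g; simp
  · intro g; simp

theorem pairs_card (v : V) :
    (∑ g : G, if v ∈ cm (g : V ≃ₗ[ZMod p] V) then Nat.card (fx (g : V ≃ₗ[ZMod p] V)) else 0) =
      ∑ w : V, Nat.card {g : G // (g : V ≃ₗ[ZMod p] V) w = w + v} := by
  have h1 : ∀ g : G, (if v ∈ cm (g : V ≃ₗ[ZMod p] V) then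
      Nat.card (fx (g : V ≃ₗ[ZMod p] V)) else 0) =
      ∑ w : V, if (g : V ≃ₗ[ZMod p] V) w = w + v then 1 else 0 := by
    intro g
    rw [Finset.sum_boole, Nat.cast_id]
    by_cases hv : v ∈ cm (g : V ≃ₗ[ZMod p] V)
    · rw [if_pos hv]
      obtain ⟨w₀, hw₀⟩ := mem_cm.1 hv
      rw [Nat.card_eq_fintype_card, Fintype.card_subtype]
      refine Finset.card_bij (fun w _ => w₀ + w) ?_ ?_ ?_
      · intro w hw
        simp only [Finset.mem_filter, Finset.mem_univ, true_and, mem_fx] at hw ⊢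
        rw [map_add, hw₀, hw]
        abel
      · intro a _ b _ h
        exact add_left_cancel h
      · intro b hb
        simp only [Finset.mem_filter, Finset.mem_univ, true_and] at hb
        refine ⟨b - w₀, ?_, by abel⟩
        simp only [Finset.mem_filter, Finset.mem_univ, true_and, mem_fx]
        rw [map_sub, hw₀, hb]
        abel
    · rw [if_neg hv, eq_comm, Finset.card_eq_zero, Finset.filter_eq_empty_iff]
      intro w _ hw
      exact hv (mem_cm.2 ⟨w, hw⟩)
  have h2 : ∀ w : V, Nat.card {g : G // (g : V ≃ₗ[ZMod p] V) w = w + v} =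
      ∑ g : G, if (g : V ≃ₗ[ZMod p] V) w = w + v then 1 else 0 := by
    intro w
    rw [Finset.sum_boole, Nat.cast_id, Nat.card_eq_fintype_card, Fintype.card_subtype]
  simp_rw [h1, h2]
  exact Finset.sum_comm

theorem exists_mem_cm {g : V ≃ₗ[ZMod p] V} (hg : g ≠ 1) : ∃ v, v ≠ 0 ∧ v ∈ cm g := by
  by_contra hc
  push Not at hc
  apply hg
  ext w
  have h1 : g w - w ∈ cm g := mem_cm.2 ⟨w, by abel⟩
  by_contra hne
  exact hc (g w - w) (sub_ne_zero.2 hne) h1

/-- `|C_V(g)| ≤ m - 1` for `g ≠ 1`. -/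
theorem fx_lt (hG : ¬ p ∣ Nat.card G) (hh : Half G h) (h0 : 0 < h) {m : ℕ}
    (hm : m * h = Nat.card G) {g₀ : G} (hg₀ : g₀ ≠ 1) :
    Nat.card (fx (g₀ : V ≃ₗ[ZMod p] V)) + 1 ≤ m := by
  obtain ⟨v, hv, hv'⟩ := exists_mem_cm (g := (g₀ : V ≃ₗ[ZMod p] V))
    (fun h => hg₀ (Subtype.ext h))
  have h1 := ident hG hh hv
  rw [pairs_card] at h1
  have h2 : h * Nat.card (fx (g₀ : V ≃ₗ[ZMod p] V)) ≤
      ∑ w : V, Nat.card {g : G // (g : V ≃ₗ[ZMod p] V) w = w + v} := by
    have h3 : ∑ w ∈ Finset.univ.filter (fun w : V => (g₀ : V ≃ₗ[ZMod p] V) w = w + v),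
        Nat.card {g : G // (g : V ≃ₗ[ZMod p] V) w = w + v} =
        ∑ _w ∈ Finset.univ.filter (fun w : V => (g₀ : V ≃ₗ[ZMod p] V) w = w + v), h := by
      refine Finset.sum_congr rfl ?_
      intro w hw
      have hw' := (Finset.mem_filter.1 hw).2
      rw [card_transporter g₀ hw']
      apply hh
      rintro rfl
      rw [map_zero, zero_add] at hw'
      exact hv hw'.symm
    have h4 : (Finset.univ.filter (fun w : V => (g₀ : V ≃ₗ[ZMod p] V) w = w + v)).card =
        Nat.card (fx (g₀ : V ≃ₗ[ZMod p] V)) := by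
      obtain ⟨w₀, hw₀⟩ := mem_cm.1 hv'
      rw [Nat.card_eq_fintype_card, Fintype.card_subtype]
      symm
      refine Finset.card_bij (fun w _ => w₀ + w) ?_ ?_ ?_
      · intro w hw
        simp only [Finset.mem_filter, Finset.mem_univ, true_and, mem_fx] at hw ⊢
        rw [map_add, hw₀, hw]
        abel
      · intro a _ b _ h
        exact add_left_cancel h
      · intro b hb
        simp only [Finset.mem_filter, Finset.mem_univ, true_and] at hb
        refine ⟨b - w₀, ?_, by abel⟩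
        simp only [Finset.mem_filter, Finset.mem_univ, true_and, mem_fx]
        rw [map_sub, hw₀, hb]
        abel
    rw [Finset.sum_const, h4, smul_eq_mul, mul_comm] at h3
    rw [← h3]
    exact Finset.sum_le_sum_of_subset (Finset.subset_univ _)
  have h5 : h * (Nat.card (fx (g₀ : V ≃ₗ[ZMod p] V)) + 1) ≤ h * m := by
    rw [mul_comm h m, hm]
    nlinarith
  exact Nat.le_of_mul_le_mul_left h5 h0

theorem fx_one : fx (1 : V ≃ₗ[ZMod p] V) = ⊤ := by
  rw [eq_top_iff]; intro v _; rw [mem_fx]; rfl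

theorem fx_pos (g : V ≃ₗ[ZMod p] V) : 0 < Nat.card (fx g) := Nat.card_pos

/-- `∑_{g ≠ 1} (|C_V(g)| - 1) = (h - 1)(|V| - 1)` in additive form. -/
theorem sum_fx_half (hh : Half G h) :
    ∑ g : G, Nat.card (fx (g : V ≃ₗ[ZMod p] V)) + h = Nat.card G + h * Nat.card V := by
  rw [sum_card_fx, ← Finset.add_sum_erase _ _ (Finset.mem_univ (0 : V))]
  have h1 : MulAction.stabilizer G (0 : V) = ⊤ := by
    rw [eq_top_iff]
    intro g _
    exact map_zero (g : V ≃ₗ[ZMod p] V)
  have h2 : ∑ v ∈ (Finset.univ.erase (0 : V)), Nat.card (MulAction.stabilizer G v) =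
      ∑ _v ∈ (Finset.univ.erase (0 : V)), h :=
    Finset.sum_congr rfl (fun v hv => hh v (Finset.ne_of_mem_erase hv))
  have h3 : (Finset.univ.erase (0 : V)).card + 1 = Nat.card V := by
    rw [Finset.card_erase_of_mem (Finset.mem_univ _), Finset.card_univ,
      Nat.card_eq_fintype_card]
    exact Nat.sub_add_cancel Fintype.card_pos
  rw [h1, h2, Subgroup.card_top, Finset.sum_const, smul_eq_mul, ← h3]
  ring

/-- **The size bound**: `|V| ≤ 2 m²`. -/
theorem card_le (hG : ¬ p ∣ Nat.card G) (hh : Half G h) (h2 : 2 ≤ h) {m : ℕ}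
    (hm : m * h = Nat.card G) : Nat.card V ≤ 2 * m ^ 2 := by
  have h1 := sum_fx_half hh
  rw [← Finset.add_sum_erase _ _ (Finset.mem_univ (1 : G))] at h1
  have e1 : Nat.card (fx ((1 : G) : V ≃ₗ[ZMod p] V)) = Nat.card V := by
    rw [Subgroup.coe_one, fx_one]
    exact Nat.card_congr Submodule.topEquiv.toEquiv
  have h3 : ∑ g ∈ Finset.univ.erase (1 : G), (Nat.card (fx (g : V ≃ₗ[ZMod p] V)) + 1) ≤
      ∑ _g ∈ Finset.univ.erase (1 : G), m :=
    Finset.sum_le_sum (fun g hg => fx_lt hG hh (by omega) hm (Finset.ne_of_mem_erase hg))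
  have h4 : (Finset.univ.erase (1 : G)).card + 1 = Nat.card G := by
    rw [Finset.card_erase_of_mem (Finset.mem_univ _), Finset.card_univ,
      Nat.card_eq_fintype_card]
    exact Nat.sub_add_cancel Fintype.card_pos
  rw [Finset.sum_add_distrib, Finset.sum_const, Finset.sum_const, smul_eq_mul, smul_eq_mul,
    mul_one] at h3
  rw [e1] at h1
  set S := ∑ g ∈ Finset.univ.erase (1 : G), Nat.card (fx (g : V ≃ₗ[ZMod p] V))
  set c := (Finset.univ.erase (1 : G)).card
  obtain ⟨k, rfl⟩ : ∃ k, h = k + 2 := ⟨h - 2, by omega⟩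
  -- `S + |V| + h = |G| + h |V|`, `S + c ≤ c m`, `c + 1 = |G| = m h`
  have hc : c + 1 = m * (k + 2) := by rw [h4, hm]
  have hS : S + Nat.card V + (k + 2) = m * (k + 2) + (k + 2) * Nat.card V := by
    rw [hm, ← h1]; ring
  obtain ⟨n, rfl⟩ : ∃ n, m = n + 1 := by
    rcases Nat.eq_zero_or_pos m with h | h
    · subst h; simp at hc
    · exact ⟨m - 1, by omega⟩
  have hc' : c = n * (k + 2) + (k + 1) := by nlinarith
  have hS2 : S ≤ c * n := by nlinarith
  have key : (k + 1) * Nat.card V ≤ (k + 1) * (2 * (n + 1) ^ 2) := by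
    have : (k + 1) * Nat.card V + n * (k + 2) = S := by nlinarith
    have h5 : c * n = (n * (k + 2) + (k + 1)) * n := by rw [hc']
    nlinarith [Nat.zero_le (k * n), Nat.zero_le (k * n * n), Nat.zero_le (n * n)]
  exact Nat.le_of_mul_le_mul_left key (by omega)

end fin

end Cfsg.Agent.H828.HT
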