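import Cfsg.Agent.H828.HT.Def

/-!
# Half-transitive linear groups: basic tools (S3540)
-/

set_option autoImplicit false
set_option linter.unusedSectionVars false

open scoped Classical

namespace Cfsg.Agent.H828.HT

universe u

variable {p : ℕ} [Fact p.Prime] {V : Type u} [AddCommGroup V] [Module (ZMod p) V] [Finite V]
variable {G : Subgroup (V ≃ₗ[ZMod p] V)} {h : ℕ}

/-! ### Orbits -/

theorem orbit_card (hh : Half G h) (h0 : 0 < h) {m : ℕ} (hm : m * h = Nat.card G) {v : V}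
    (hv : v ≠ 0) : Nat.card (MulAction.orbit G v) = m := by
  have h1 := MulAction.card_orbit_mul_card_stabilizer_eq_card_group G v
  rw [← Nat.card_eq_fintype_card, ← Nat.card_eq_fintype_card, ← Nat.card_eq_fintype_card,
    hh v hv, ← hm] at h1
  exact Nat.eq_of_mul_eq_mul_right h0 h1

/-- the common orbit length exists -/
theorem exists_m (hh : Half G h) (hV : ∃ v : V, v ≠ 0) : ∃ m, m * h = Nat.card G ∧ 0 < m := by
  obtain ⟨v, hv⟩ := hV
  have : Nonempty (MulAction.orbit G v) := ⟨⟨v, MulAction.mem_orbit_self v⟩⟩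
  refine ⟨Nat.card (MulAction.orbit G v), ?_, Nat.card_pos⟩
  have h1 := MulAction.card_orbit_mul_card_stabilizer_eq_card_group G v
  rw [← Nat.card_eq_fintype_card, ← Nat.card_eq_fintype_card, ← Nat.card_eq_fintype_card,
    hh v hv] at h1
  exact h1

/-- in a `G`-set all of whose orbits have `m` elements, the number of points is divisible
by `m` -/
theorem dvd_card_of_orbits {K X : Type*} [Group K] [MulAction K X] [Finite X] {m : ℕ}
    (hX : ∀ x : X, Nat.card (MulAction.orbit K x) = m) : m ∣ Nat.card X := by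
  rw [Nat.card_congr (MulAction.selfEquivSigmaOrbits K X)]
  rw [Nat.card_sigma]
  exact Finset.dvd_sum (fun ω _ => by rw [hX])

/-- **`m` divides the size of every `G`-invariant set of non-zero vectors.** -/
theorem dvd_invariant (hh : Half G h) (h0 : 0 < h) {m : ℕ} (hm : m * h = Nat.card G)
    (X : Set V) (hX0 : (0 : V) ∉ X) (hX : ∀ g ∈ G, ∀ v ∈ X, g v ∈ X) : m ∣ Nat.card X := by
  let _ : MulAction G X :=
    { smul := fun g x => ⟨(g : V ≃ₗ[ZMod p] V) x, hX g g.2 x x.2⟩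
      one_smul := fun x => Subtype.ext rfl
      mul_smul := fun a b x => Subtype.ext rfl }
  refine dvd_card_of_orbits (K := G) ?_
  intro x
  rw [← orbit_card hh h0 hm (v := (x : V)) (fun h => hX0 (h ▸ x.2))]
  refine Nat.card_congr ⟨fun y => ⟨y.1.1, ?_⟩, fun y => ⟨⟨y.1, ?_⟩, ?_⟩, ?_, ?_⟩
  · obtain ⟨g, hg⟩ := y.2
    exact ⟨g, congrArg Subtype.val hg⟩
  · obtain ⟨g, hg⟩ := y.2
    rw [← hg]
    exact hX g g.2 x x.2
  · obtain ⟨g, hg⟩ := y.2
    exact ⟨g, Subtype.ext hg⟩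
  · intro y; rfl
  · intro y; rfl

theorem dvd_card_sub_one (hh : Half G h) (h0 : 0 < h) {m : ℕ} (hm : m * h = Nat.card G) :
    m ∣ Nat.card V - 1 := by
  have h1 := dvd_invariant hh h0 hm {v : V | v ≠ 0} (by simp) (by
    intro g _ v hv
    simpa using hv)
  have h2 : Nat.card {v : V | v ≠ 0} = Nat.card V - 1 := by
    have : Nat.card {v : V | v ≠ 0} = Nat.card {v : V // v ∈ Finset.univ.erase (0 : V)} :=
      Nat.card_congr (Equiv.subtypeEquivRight (by simp))
    rw [this, Nat.card_eq_fintype_card, Fintype.card_coe,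
      Finset.card_erase_of_mem (Finset.mem_univ _), Finset.card_univ, Nat.card_eq_fintype_card]
  rwa [h2] at h1

/-- **orbits of a normal subgroup**: `|N : N_v|` divides `m`. -/
theorem orbit_normal_dvd (N : Subgroup (V ≃ₗ[ZMod p] V)) (hNG : N ≤ G)
    (hN : ∀ g ∈ G, ∀ n ∈ N, g * n * g⁻¹ ∈ N) (v : V) :
    Nat.card (MulAction.orbit N v) ∣ Nat.card (MulAction.orbit G v) := by
  -- `N` acts on the `G`-orbit of `v`, all its orbits there are translates
  let _ : MulAction N (MulAction.orbit G v) :=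
    { smul := fun n x => ⟨(n : V ≃ₗ[ZMod p] V) x, by
        obtain ⟨g, hg⟩ := x.2
        refine ⟨(⟨n, hNG n.2⟩ : G) * g, ?_⟩
        rw [← hg]
        rfl⟩
      one_smul := fun x => Subtype.ext rfl
      mul_smul := fun a b x => Subtype.ext rfl }
  refine dvd_card_of_orbits (K := N) ?_
  intro x
  obtain ⟨g, hg⟩ := x.2
  refine Nat.card_congr ⟨fun y => ⟨((g⁻¹ : G) : V ≃ₗ[ZMod p] V) y.1.1, ?_⟩,
    fun y => ⟨⟨(g : V ≃ₗ[ZMod p] V) y.1, ?_⟩, ?_⟩, ?_, ?_⟩
  · obtain ⟨n, hn⟩ := y.2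
    refine ⟨⟨(g : V ≃ₗ[ZMod p] V)⁻¹ * n * (g : V ≃ₗ[ZMod p] V)⁻¹⁻¹,
      hN _ (G.inv_mem g.2) n n.2⟩, ?_⟩
    have h1 : (y.1 : V) = (n : V ≃ₗ[ZMod p] V) x := (congrArg Subtype.val hn).symm
    rw [h1, ← hg]
    rfl
  · obtain ⟨n, hn⟩ := y.2
    exact ⟨g * ⟨n, hNG n.2⟩, by rw [← hn]; rfl⟩
  · obtain ⟨n, hn⟩ := y.2
    refine ⟨⟨(g : V ≃ₗ[ZMod p] V) * n * (g : V ≃ₗ[ZMod p] V)⁻¹, hN _ g.2 n n.2⟩,
      Subtype.ext ?_⟩
    change ((g : V ≃ₗ[ZMod p] V) * n * (g : V ≃ₗ[ZMod p] V)⁻¹) (x : V) = _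
    have h2 : (x : V) = (g : V ≃ₗ[ZMod p] V) v := hg.symm
    have h3 : (y.1 : V) = (n : V ≃ₗ[ZMod p] V) v := hn.symm
    rw [h2]
    change (g : V ≃ₗ[ZMod p] V) ((n : V ≃ₗ[ZMod p] V)
      (((g : V ≃ₗ[ZMod p] V)⁻¹ * (g : V ≃ₗ[ZMod p] V)) v)) = (g : V ≃ₗ[ZMod p] V) y.1
    rw [inv_mul_cancel, h3]
    rfl
  · intro y
    refine Subtype.ext (Subtype.ext ?_)
    change ((g : V ≃ₗ[ZMod p] V) * (g : V ≃ₗ[ZMod p] V)⁻¹) y.1.1 = y.1.1
    rw [mul_inv_cancel]; rfl
  · intro y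
    refine Subtype.ext ?_
    change ((g : V ≃ₗ[ZMod p] V)⁻¹ * (g : V ≃ₗ[ZMod p] V)) y.1 = y.1
    rw [inv_mul_cancel]; rfl

theorem orbit_normal_dvd_m (hh : Half G h) (h0 : 0 < h) {m : ℕ} (hm : m * h = Nat.card G)
    (N : Subgroup (V ≃ₗ[ZMod p] V)) (hNG : N ≤ G)
    (hN : ∀ g ∈ G, ∀ n ∈ N, g * n * g⁻¹ ∈ N) {v : V} (hv : v ≠ 0) :
    Nat.card (MulAction.orbit N v) ∣ m := by
  rw [← orbit_card hh h0 hm hv]
  exact orbit_normal_dvd N hNG hN v

/-- a normal subgroup with a regular orbit has order dividing `m` -/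
theorem card_normal_dvd_m (hh : Half G h) (h0 : 0 < h) {m : ℕ} (hm : m * h = Nat.card G)
    (N : Subgroup (V ≃ₗ[ZMod p] V)) (hNG : N ≤ G)
    (hN : ∀ g ∈ G, ∀ n ∈ N, g * n * g⁻¹ ∈ N) {v : V} (hv : v ≠ 0)
    (hreg : ∀ n ∈ N, n v = v → n = 1) : Nat.card N ∣ m := by
  have h1 := orbit_normal_dvd_m hh h0 hm N hNG hN hv
  have h2 := MulAction.card_orbit_mul_card_stabilizer_eq_card_group N v
  rw [← Nat.card_eq_fintype_card, ← Nat.card_eq_fintype_card, ← Nat.card_eq_fintype_card] at h2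
  have h3 : MulAction.stabilizer N v = ⊥ := by
    rw [eq_bot_iff]
    intro n hn
    rw [Subgroup.mem_bot]
    exact Subtype.ext (hreg n n.2 hn)
  rw [h3, Subgroup.card_bot, mul_one] at h2
  rwa [h2] at h1

/-! ### Coverage -/

/-- **Coverage.** If the prime power `r ^ a` divides `h`, then
`(r ^ a - 1)(|V| - 1) ≤ ∑ (|C_V(g)| - 1)` over the non-trivial `r`-elements `g` of `G`. -/
theorem coverage (hh : Half G h) {r a : ℕ} [Fact r.Prime] (hr : r ^ a ∣ h) :
    (r ^ a - 1) * (Nat.card V - 1) ≤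
      ∑ g ∈ Finset.univ.filter (fun g : G => g ≠ 1 ∧ ∃ k, orderOf g = r ^ k),
        (Nat.card (fx (g : V ≃ₗ[ZMod p] V)) - 1) := by
  have h1 : ∀ g : G, Nat.card (fx (g : V ≃ₗ[ZMod p] V)) - 1 =
      ∑ v ∈ Finset.univ.erase (0 : V), if (g : V ≃ₗ[ZMod p] V) v = v then 1 else 0 := by
    intro g
    rw [Finset.sum_boole, Nat.cast_id, Nat.card_eq_fintype_card, Fintype.card_subtype]
    have : Finset.filter (fun v => (g : V ≃ₗ[ZMod p] V) v = v) (Finset.univ.erase (0 : V)) =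
        (Finset.univ.filter (fun v : V => v ∈ fx (g : V ≃ₗ[ZMod p] V))).erase 0 := by
      ext v; simp
    rw [this, Finset.card_erase_of_mem (by simp)]
  rw [Finset.sum_congr rfl (fun g _ => h1 g), Finset.sum_comm]
  have h2 : ∀ v ∈ Finset.univ.erase (0 : V), r ^ a - 1 ≤
      ∑ g ∈ Finset.univ.filter (fun g : G => g ≠ 1 ∧ ∃ k, orderOf g = r ^ k),
        (if (g : V ≃ₗ[ZMod p] V) v = v then 1 else 0) := by
    intro v hv
    have hv0 := Finset.ne_of_mem_erase hv
    rw [Finset.sum_boole, Nat.cast_id, Finset.filter_filter]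
    obtain ⟨R, hR⟩ := Sylow.exists_subgroup_card_pow_prime r
      (G := MulAction.stabilizer G v) (n := a) (by rw [hh v hv0]; exact hr)
    have hRp : IsPGroup r R := IsPGroup.of_card hR
    have h3 : (Finset.univ.filter (fun x : R => x ≠ 1)).card = r ^ a - 1 := by
      rw [Finset.filter_ne', Finset.card_erase_of_mem (Finset.mem_univ _), Finset.card_univ,
        ← Nat.card_eq_fintype_card, hR]
    rw [← h3]
    refine Finset.card_le_card_of_injOn (fun x => ((x : MulAction.stabilizer G v) : G)) ?_ ?_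
    · intro x hx
      simp only [Finset.coe_filter, Finset.mem_univ, true_and, Set.mem_ofPred_eq] at hx ⊢
      refine ⟨⟨?_, ?_⟩, x.1.2⟩
      · intro hc
        exact hx (Subtype.ext (Subtype.ext hc))
      · obtain ⟨k, hk⟩ := (IsPGroup.iff_orderOf.1 hRp) x
        refine ⟨k, ?_⟩
        rw [← hk]
        rw [Subgroup.orderOf_coe, Subgroup.orderOf_coe]
    · intro x _ y _ hxy
      exact Subtype.ext (Subtype.ext hxy)
  have h4 := Finset.sum_le_sum h2
  rw [Finset.sum_const, Finset.card_erase_of_mem (Finset.mem_univ _), Finset.card_univ,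
    ← Nat.card_eq_fintype_card, smul_eq_mul, mul_comm] at h4
  exact h4

/-- an element of prime order with a non-zero fixed vector shows `r ∣ h` -/
theorem dvd_h (hh : Half G h) {r : ℕ} {g : G} (hg : orderOf g = r) {v : V} (hv : v ≠ 0)
    (hgv : (g : V ≃ₗ[ZMod p] V) v = v) : r ∣ h := by
  rw [← hh v hv, ← hg]
  have : orderOf (⟨g, hgv⟩ : MulAction.stabilizer G v) = orderOf g := by
    rw [← Subgroup.orderOf_coe]
  rw [← this]
  exact orderOf_dvd_natCard _

/-- a subgroup fixing a non-zero vector has order dividing `h` -/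
theorem card_dvd_h (hh : Half G h) (X : Subgroup (V ≃ₗ[ZMod p] V)) (hX : X ≤ G) {v : V}
    (hv : v ≠ 0) (hXv : ∀ g ∈ X, g v = v) : Nat.card X ∣ h := by
  rw [← hh v hv]
  have h1 : X.subgroupOf G ≤ MulAction.stabilizer G v := fun g hg => hXv _ hg
  rw [Nat.card_congr (Subgroup.subgroupOfEquivOfLe hX).toEquiv.symm]
  exact Subgroup.card_dvd_of_le h1

/-! ### Restriction to a submodule -/

/-- restriction of a linear equivalence to an invariant submodule -/
def resEquiv (M : Submodule (ZMod p) V) (g : V ≃ₗ[ZMod p] V) (hg : ∀ v, v ∈ M ↔ g v ∈ M) :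
    M ≃ₗ[ZMod p] M where
  toFun v := ⟨g v, (hg v).1 v.2⟩
  map_add' _ _ := Subtype.ext (map_add g _ _)
  map_smul' _ _ := Subtype.ext (map_smul g _ _)
  invFun v := ⟨g.symm v, (hg _).2 (by rw [LinearEquiv.apply_symm_apply]; exact v.2)⟩
  left_inv _ := Subtype.ext (g.symm_apply_apply _)
  right_inv _ := Subtype.ext (g.apply_symm_apply _)

/-- the setwise stabiliser of `M` in `G` -/
def stb (G : Subgroup (V ≃ₗ[ZMod p] V)) (M : Submodule (ZMod p) V) :
    Subgroup (V ≃ₗ[ZMod p] V) where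
  carrier := {g | g ∈ G ∧ ∀ v, v ∈ M ↔ g v ∈ M}
  one_mem' := ⟨G.one_mem, fun _ => Iff.rfl⟩
  mul_mem' := fun {a b} ha hb => ⟨G.mul_mem ha.1 hb.1, fun v =>
    (hb.2 v).trans (ha.2 (b v))⟩
  inv_mem' := fun {a} ha => ⟨G.inv_mem ha.1, fun v => by
    have h1 := ha.2 (a⁻¹ v)
    have h2 : a (a⁻¹ v) = v := by
      change (a * a⁻¹) v = v
      rw [mul_inv_cancel]; rfl
    rw [h2] at h1
    exact h1.symm⟩

theorem stb_le (M : Submodule (ZMod p) V) : stb G M ≤ G := fun _ hg => hg.1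

theorem mem_stb {M : Submodule (ZMod p) V} {g : V ≃ₗ[ZMod p] V} :
    g ∈ stb G M ↔ g ∈ G ∧ ∀ v, v ∈ M ↔ g v ∈ M := Iff.rfl

/-- the restriction homomorphism -/
def res (G : Subgroup (V ≃ₗ[ZMod p] V)) (M : Submodule (ZMod p) V) :
    stb G M →* (M ≃ₗ[ZMod p] M) where
  toFun g := resEquiv M g g.2.2
  map_one' := LinearEquiv.ext fun _ => rfl
  map_mul' _ _ := LinearEquiv.ext fun _ => rfl

@[simp] theorem res_apply (M : Submodule (ZMod p) V) (g : stb G M) (v : M) :
    ((res G M g v : M) : V) = (g : V ≃ₗ[ZMod p] V) v := rfl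

/-- the linear group induced on `M` by its stabiliser in `G` -/
def rs (G : Subgroup (V ≃ₗ[ZMod p] V)) (M : Submodule (ZMod p) V) :
    Subgroup (M ≃ₗ[ZMod p] M) := (res G M).range

theorem card_rs_dvd (M : Submodule (ZMod p) V) : Nat.card (rs G M) ∣ Nat.card G :=
  (Subgroup.card_range_dvd (res G M)).trans (Subgroup.card_dvd_of_le (stb_le M))

/-- if stabilisers of vectors of `M` stabilise `M`, the group induced on `M` is
half-transitive -/
theorem half_rs (hh : Half G h) {M : Submodule (ZMod p) V}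
    (hst : ∀ v ∈ M, v ≠ 0 → ∀ g ∈ G, g v = v → ∀ w, w ∈ M ↔ g w ∈ M)
    (hM : M ≠ ⊥) :
    ∃ h', Nat.card (res G M).ker * h' = h ∧ Half (rs G M) h' := by
  have key : ∀ v : M, v ≠ 0 →
      Nat.card (res G M).ker * Nat.card (MulAction.stabilizer (rs G M) v) = h := by
    intro v hv
    have hv' : (v : V) ≠ 0 := fun h => hv (Subtype.ext h)
    -- the stabiliser of `v` in `stb G M`
    let S : Subgroup (stb G M) :=
      (MulAction.stabilizer (rs G M) v).comap (res G M).rangeRestrict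
    have hS1 : Nat.card S = h := by
      rw [← hh (v : V) hv']
      refine Nat.card_congr ⟨fun g => ⟨⟨g.1.1, g.1.2.1⟩, ?_⟩, fun g => ⟨⟨g.1.1, g.1.2,
        hst v v.2 hv' g.1.1 g.1.2 g.2⟩, ?_⟩, ?_, ?_⟩
      · have := g.2
        exact congrArg Subtype.val (show res G M g.1 v = v from this)
      · exact Subtype.ext g.2
      · intro g; rfl
      · intro g; rfl
    have hS2 : (res G M).rangeRestrict.ker ≤ S := by
      intro g hg
      change (res G M).rangeRestrict g ∈ MulAction.stabilizer (rs G M) v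
      rw [(MonoidHom.mem_ker).1 hg]
      exact one_mem _
    have hS3 : S.map (res G M).rangeRestrict = MulAction.stabilizer (rs G M) v :=
      Subgroup.map_comap_eq_self_of_surjective (res G M).rangeRestrict_surjective _
    have h6 : Nat.card (MulAction.stabilizer (rs G M) v) =
        Nat.card (S.map (res G M).rangeRestrict) :=
      (congrArg (fun X : Subgroup (rs G M) => Nat.card X) hS3).symm
    rw [← hS1, h6, ← MonoidHom.ker_rangeRestrict]
    have h4 := Subgroup.card_mul_index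
      (((res G M).rangeRestrict.ker).subgroupOf S)
    rw [Nat.card_congr (Subgroup.subgroupOfEquivOfLe hS2).toEquiv] at h4
    rw [← h4]
    have e := QuotientGroup.quotientKerEquivRange ((res G M).rangeRestrict.comp S.subtype)
    have e1 : ((res G M).rangeRestrict.comp S.subtype).range =
        S.map (res G M).rangeRestrict := by
      rw [MonoidHom.range_comp, Subgroup.range_subtype]
    have e2 : ((res G M).rangeRestrict.comp S.subtype).ker =
        ((res G M).rangeRestrict.ker).subgroupOf S := by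
      ext x; rfl
    have h5 : Nat.card (S.map (res G M).rangeRestrict) =
        (((res G M).rangeRestrict.ker).subgroupOf S).index := by
      rw [← e1, Subgroup.index, ← e2]
      exact (Nat.card_congr e.toEquiv).symm
    rw [h5]
  obtain ⟨v, hvM, hv⟩ := Submodule.exists_mem_ne_zero_of_ne_bot hM
  refine ⟨Nat.card (MulAction.stabilizer (rs G M) (⟨v, hvM⟩ : M)),
    key ⟨v, hvM⟩ (fun h => hv (congrArg Subtype.val h)), ?_⟩
  intro w hw
  have h1 := key w hw
  have h2 := key ⟨v, hvM⟩ (fun h => hv (congrArg Subtype.val h))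
  exact Nat.eq_of_mul_eq_mul_left Nat.card_pos (h1.trans h2.symm)

/-- **Lemma T1.** `N` normal in `G`, `M` an irreducible `N`-submodule: the stabiliser in
`G` of a non-zero vector of `M` stabilises `M`. -/
theorem stab_of_irred (N : Subgroup (V ≃ₗ[ZMod p] V))
    (hN : ∀ g ∈ G, ∀ n ∈ N, g * n * g⁻¹ ∈ N) {M : Submodule (ZMod p) V}
    (hinv : ∀ n ∈ N, ∀ v ∈ M, n v ∈ M)
    (hirr : ∀ W : Submodule (ZMod p) V, W ≤ M → (∀ n ∈ N, ∀ v ∈ W, n v ∈ W) →
      W = ⊥ ∨ W = M) :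
    ∀ v ∈ M, v ≠ 0 → ∀ g ∈ G, g v = v → ∀ w, w ∈ M ↔ g w ∈ M := by
  intro v hv hv0 g hg hgv
  -- `W = M ∩ g M`
  have hinv2 : ∀ n ∈ N, ∀ w ∈ M.map (g : V →ₗ[ZMod p] V), n w ∈ M.map (g : V →ₗ[ZMod p] V) := by
    rintro n hn _ ⟨w, hw, rfl⟩
    have h1 := hN g⁻¹ (G.inv_mem hg) n hn
    refine ⟨(g⁻¹ * n * g⁻¹⁻¹) w, hinv _ h1 w hw, ?_⟩
    change (g * (g⁻¹ * n * g⁻¹⁻¹)) w = n (g w)
    rw [inv_inv, ← mul_assoc, mul_inv_cancel_left]
    rfl
  have h1 := hirr (M ⊓ M.map (g : V →ₗ[ZMod p] V)) inf_le_left (by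
    intro n hn w hw
    exact ⟨hinv n hn w hw.1, hinv2 n hn w hw.2⟩)
  have h2 : M ⊓ M.map (g : V →ₗ[ZMod p] V) ≠ ⊥ := by
    intro hc
    have : v ∈ M ⊓ M.map (g : V →ₗ[ZMod p] V) := ⟨hv, v, hv, hgv⟩
    rw [hc] at this
    exact hv0 ((Submodule.mem_bot _).1 this)
  have h3 : M ≤ M.map (g : V →ₗ[ZMod p] V) := by
    rcases h1 with h | h
    · exact absurd h h2
    · exact inf_eq_left.1 h
  have h4 : M.map (g : V →ₗ[ZMod p] V) = M := by
    refine (Submodule.eq_of_le_of_finrank_eq h3 ?_).symm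
    exact (LinearEquiv.finrank_map_eq g M).symm
  intro w
  constructor
  · intro hw
    rw [← h4]
    exact ⟨w, hw, rfl⟩
  · intro hw
    rw [← h4] at hw
    obtain ⟨u, hu, hu'⟩ := hw
    have : u = w := g.injective hu'
    rwa [← this]

end Cfsg.Agent.H828.HT
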