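import Cfsg.Agent.H19.HT.Asm
import Cfsg.Agent.H742.HT.Fus
import Cfsg.Agent.H192.Ht.QLN
import Cfsg.Agent.H933.HT.U33T
import Cfsg.Agent.H912.CrossList

/-!
# S3512, survivor `U₃(3)`, `(n, q, m) = (6, 2, 21)`
-/

set_option autoImplicit false
set_option linter.unusedSectionVars false

universe u w

namespace Cfsg.Agent.H828.HT.KillU33

open Cfsg Subgroup Cfsg.Agent.H828.HT Cfsg.Agent.H742.HT Cfsg.Agent.H742.HT.Fus Cfsg.Agent.H19.HT

/-- in a non-abelian group of order 27 a central element lies in every subgroup of order divisible by 9 -/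
theorem mem_of_card {Q : Type*} [Group Q] [Finite Q] (hQ : Nat.card Q = 27) (hna : ∃ a b : Q, a * b ≠ b * a) {z : Q}
    (hz : ∀ a, z * a = a * z) {R : Subgroup Q} (hR : 9 ∣ Nat.card R) : z ∈ R := by
  by_contra hzR
  have h3 : Fact (Nat.Prime 3) := ⟨Nat.prime_three⟩
  have key : ∀ H : Subgroup Q, 9 ∣ Nat.card H → Nat.card H ≠ 9 → H = ⊤ := by
    intro H h1 h2
    have h3 : Nat.card H ∣ 27 := hQ ▸ Subgroup.card_subgroup_dvd_card H
    have h4 : Nat.card H = 27 := by
      have h5 : Nat.card H ≤ 27 := Nat.le_of_dvd (by norm_num) h3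
      interval_cases h6 : Nat.card H <;> omega
    exact Subgroup.eq_top_of_card_eq _ (h4.trans hQ.symm)
  have hR9 : Nat.card R = 9 := by
    by_contra h
    exact hzR (by rw [key R hR h]; trivial)
  have hRc : IsMulCommutative R := IsPGroup.isMulCommutative_of_card_eq_prime_sq (p := 3) (by rw [hR9]; norm_num)
  have hlt : ∀ H : Subgroup Q, R ≤ H → z ∈ H → H = ⊤ := by
    intro H hRH hzH
    refine key H (hR.trans (Subgroup.card_dvd_of_le hRH)) (fun h => hzR ?_)
    have h1 : R = H := Subgroup.eq_of_le_of_card_ge hRH (by rw [h, hR9])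
    rw [h1]; exact hzH
  have h1 : centralizer (R : Set Q) = ⊤ := hlt _
    (fun a ha => by
      rw [mem_centralizer_iff]
      intro b hb
      exact congrArg Subtype.val (hRc.is_comm.comm (⟨b, hb⟩ : R) ⟨a, ha⟩))
    (by rw [mem_centralizer_iff]; intro b _; exact (hz b).symm)
  have h2 : center Q = ⊤ := hlt _
    (fun a ha => by
      rw [mem_center_iff]
      intro b
      have : b ∈ centralizer (R : Set Q) := by rw [h1]; trivial
      exact ((mem_centralizer_iff.1 this) a ha).symm)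
    (by rw [mem_center_iff]; intro b; exact (hz b).symm)
  obtain ⟨a, b, hab⟩ := hna
  apply hab
  have : b ∈ center Q := by rw [h2]; trivial
  exact (mem_center_iff.1 this a)

/-- the arithmetic -/
theorem arith {j : ℕ} (hj : j ≤ 6) (h : 9 ∣ 64 - 2 ^ j) : j = 0 ∨ j = 6 := by
  interval_cases j <;> revert h <;> decide

variable {V : Type u} [AddCommGroup V] [Module (ZMod 2) V] [Finite V]

/-- a non-abelian group of order 27 on `𝔽₂⁶`: no non-zero vector has a stabiliser of order divisible by 9 -/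
theorem no_vector (hV : Nat.card V = 64) (Q : Subgroup (V ≃ₗ[ZMod 2] V)) (hQ : Nat.card Q = 27)
    (hna : ∃ a ∈ Q, ∃ b ∈ Q, a * b ≠ b * a) {u : V} (hu : u ≠ 0)
    (h9 : 9 ∣ Nat.card (MulAction.stabilizer Q u)) : False := by
  classical
  have h3 : Fact (Nat.Prime 3) := ⟨Nat.prime_three⟩
  have hQp : IsPGroup 3 Q := IsPGroup.of_card (n := 3) (by rw [hQ]; norm_num)
  have hnt : Nontrivial Q := by
    obtain ⟨a, ha, b, hb, hab⟩ := hna
    exact ⟨⟨⟨a, ha⟩, 1, fun h => hab (by
      have h1 : a = 1 := congrArg Subtype.val h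
      rw [h1, one_mul, mul_one])⟩⟩
  have hna' : ∃ a b : Q, a * b ≠ b * a := by
    obtain ⟨a, ha, b, hb, hab⟩ := hna
    exact ⟨⟨a, ha⟩, ⟨b, hb⟩, fun h => hab (congrArg Subtype.val h)⟩
  have hcn := hQp.center_nontrivial
  obtain ⟨⟨z, hz⟩, hz1⟩ := exists_ne (1 : center Q)
  have hz1' : z ≠ 1 := fun h => hz1 (Subtype.ext h)
  have hzc : ∀ a, z * a = a * z := fun a => (mem_center_iff.1 hz a).symm
  have hstab : ∀ v : V, 9 ∣ Nat.card (MulAction.stabilizer Q v) → (z : V ≃ₗ[ZMod 2] V) v = v := by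
    intro v hv
    exact mem_of_card hQ hna' hzc hv
  let X : Set V := {v | (z : V ≃ₗ[ZMod 2] V) v ≠ v}
  have hX : ∀ g : Q, ∀ v ∈ X, (g : V ≃ₗ[ZMod 2] V) v ∈ X := by
    intro g v hv h
    apply hv
    have h1 : ((z * g : Q) : V ≃ₗ[ZMod 2] V) v = (g : V ≃ₗ[ZMod 2] V) v := h
    rw [hzc g] at h1
    exact (g : V ≃ₗ[ZMod 2] V).injective h1
  let _ : MulAction Q X :=
    { smul := fun g x => ⟨(g : V ≃ₗ[ZMod 2] V) x, hX g x x.2⟩
      one_smul := fun x => Subtype.ext rfl
      mul_smul := fun a b x => Subtype.ext rfl }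
  have h9X : 9 ∣ Nat.card X := by
    refine dvd_card_of_dvd_orbits (Γ := Q) ?_
    intro x
    have h1 := MulAction.card_orbit_mul_card_stabilizer_eq_card_group Q x
    rw [← Nat.card_eq_fintype_card, ← Nat.card_eq_fintype_card, ← Nat.card_eq_fintype_card, hQ] at h1
    have h2 : ¬ 9 ∣ Nat.card (MulAction.stabilizer Q x) := by
      intro h
      have h4 : MulAction.stabilizer Q x = MulAction.stabilizer Q (x : V) := by
        ext g
        exact Subtype.ext_iff
      rw [h4] at h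
      exact x.2 (hstab _ h)
    have h5 : Nat.card (MulAction.stabilizer Q x) ∣ 27 := ⟨_, by rw [mul_comm]; exact h1.symm⟩
    have h6 : Nat.card (MulAction.stabilizer Q x) ≤ 27 := Nat.le_of_dvd (by norm_num) h5
    generalize Nat.card (MulAction.stabilizer Q x) = s at *
    interval_cases s <;> omega
  have hfx : Nat.card (fx (z : V ≃ₗ[ZMod 2] V)) + Nat.card X = 64 := by
    rw [← hV]
    have h1 : Nat.card X = Nat.card {v : V // ¬ v ∈ fx (z : V ≃ₗ[ZMod 2] V)} := by
      refine Nat.card_congr (Equiv.subtypeEquivRight fun v => ?_)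
      rw [mem_fx]
      rfl
    rw [h1]
    have h2 := Fintype.card_subtype_compl (fun v : V => v ∈ fx (z : V ≃ₗ[ZMod 2] V))
    have h3 := Fintype.card_subtype_le (fun v : V => v ∈ fx (z : V ≃ₗ[ZMod 2] V))
    rw [← Nat.card_eq_fintype_card, ← Nat.card_eq_fintype_card, ← Nat.card_eq_fintype_card] at h2
    rw [← Nat.card_eq_fintype_card, ← Nat.card_eq_fintype_card] at h3
    have h4 : Nat.card (fx (z : V ≃ₗ[ZMod 2] V)) = Nat.card {v : V // v ∈ fx (z : V ≃ₗ[ZMod 2] V)} := rfl
    omega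
  have hpow : Nat.card (fx (z : V ≃ₗ[ZMod 2] V)) = 2 ^ Module.finrank (ZMod 2) (fx (z : V ≃ₗ[ZMod 2] V)) := by
    rw [Module.natCard_eq_pow_finrank (K := ZMod 2), Nat.card_zmod]
  have h64 : Nat.card V = 2 ^ 6 := by rw [hV]; norm_num
  have hj : Module.finrank (ZMod 2) (fx (z : V ≃ₗ[ZMod 2] V)) ≤ 6 := by
    have h1 : 2 ^ Module.finrank (ZMod 2) (fx (z : V ≃ₗ[ZMod 2] V)) ≤ 2 ^ 6 := by
      rw [← hpow]
      have h2 : (2 : ℕ) ^ 6 = 64 := by norm_num
      omega
    exact (Nat.pow_le_pow_iff_right (by norm_num : 1 < 2)).1 h1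
  rw [hpow] at hfx
  rcases arith hj (by
    have h1 : Nat.card X = 64 - 2 ^ Module.finrank (ZMod 2) (fx (z : V ≃ₗ[ZMod 2] V)) := by omega
    rw [← h1]; exact h9X) with h0 | h6
  · rw [h0, pow_zero] at hpow
    have h1 : u ∈ fx (z : V ≃ₗ[ZMod 2] V) := by
      rw [mem_fx]; exact hstab u h9
    have h2 : (⟨u, h1⟩ : fx (z : V ≃ₗ[ZMod 2] V)) = 0 := by
      have := (Nat.card_eq_one_iff_unique.1 hpow).1
      exact Subsingleton.elim _ _
    exact hu (congrArg Subtype.val h2)
  · rw [h6] at hpow hfx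
    have h1 : Nat.card X = 0 := by
      have h2 : (2 : ℕ) ^ 6 = 64 := by norm_num
      omega
    apply hz1'
    apply Subtype.ext
    apply LinearEquiv.ext
    intro v
    by_contra hv
    have : Nonempty X := ⟨⟨v, hv⟩⟩
    have := Nat.card_pos (α := X)
    omega

variable {p : ℕ} [hpp : Fact p.Prime] {K : Type w} [Field K] {V : Type u} [AddCommGroup V] [Module (ZMod p) V]
  [Module K V] [Finite V] {G L : Subgroup (V ≃ₗ[ZMod p] V)} {h : ℕ}

/-- **The survivor `U₃(3)`.** -/
theorem kill (H : QSP p K V G L h) {m : ℕ} (hm : m * h = Nat.card G) (hT : H912.Bd.IsU 3 3 (L ⧸ center L))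
    (hn : (Module.finrank K V, Nat.card K, m) ∈ [(6, 2, 21)]) : False := by
  classical
  rw [List.mem_singleton, Prod.mk.injEq, Prod.mk.injEq] at hn
  obtain ⟨hn, hK, rfl⟩ := hn
  have HQ : QL p K V G L h := ⟨H.half, H.le, H.nrm, H.perf, H.simple, H.nonab, H.lin, H.endo, H.irr⟩
  have hp2 : p = 2 := by
    obtain ⟨k, hk, hk0⟩ := Cfsg.Agent.H192.Ht.QN.exists_card HQ
    rw [hK] at hk
    have h1 : p ∣ 2 := by rw [hk]; exact dvd_pow_self p hk0.ne'
    exact (Nat.prime_dvd_prime_iff_eq hpp.out Nat.prime_two).1 h1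
  subst hp2
  have hV : Nat.card V = 64 := by
    rw [Cfsg.Agent.H192.Ht.QN.card_V HQ, hn, hK]; norm_num
  obtain ⟨v, hv⟩ := Cfsg.Agent.H192.Ht.QN.exists_ne HQ
  -- the centre is trivial
  have hZ : ∀ l : L, l ∈ center L → l = 1 := by
    intro l hl
    obtain ⟨c, hc⟩ := H.endo (l : V ≃ₗ[ZMod 2] V) (fun a ha w => by
      have h1 := mem_center_iff.1 hl ⟨a, ha⟩
      have h2 : a * (l : V ≃ₗ[ZMod 2] V) = l * a := congrArg Subtype.val h1
      exact (LinearEquiv.congr_fun h2 w).symm)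
    have hc1 : c = 1 := by
      have hc0 : c ≠ 0 := by
        rintro rfl
        have h3 := hc v
        rw [zero_smul] at h3
        exact hv ((l : V ≃ₗ[ZMod 2] V).map_eq_zero_iff.1 h3)
      have hfin : Finite K := Nat.finite_of_card_ne_zero (by rw [hK]; norm_num)
      have := Fintype.ofFinite K
      have h4 := FiniteField.pow_card_sub_one_eq_one c hc0
      rw [← Nat.card_eq_fintype_card, hK] at h4
      simpa using h4
    apply Subtype.ext
    apply LinearEquiv.ext
    intro w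
    have h5 := hc w
    rw [hc1, one_smul] at h5
    exact h5
  obtain ⟨F, _, _, hF, ⟨e⟩⟩ := hT
  let f : L →* PSU 3 F 3 := e.toMonoidHom.comp (QuotientGroup.mk' (center L))
  have hfs : Function.Surjective f := e.surjective.comp (QuotientGroup.mk'_surjective _)
  have hfi : Function.Injective f := by
    rw [injective_iff_map_eq_one]
    intro a ha
    apply hZ
    have h1 : QuotientGroup.mk' (center L) a = 1 := e.injective (by rw [map_one]; exact ha)
    exact (QuotientGroup.eq_one_iff a).1 h1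
  have h3 : Fact (Nat.Prime 3) := ⟨Nat.prime_three⟩
  obtain ⟨P⟩ : Nonempty (Sylow 3 L) := inferInstance
  obtain ⟨hP1, ⟨a, ha, b, hb, hab⟩, -⟩ := H933.HT.u33_sylow (F := F) (by rw [hF]) (P.mapSurjective hfs)
  obtain ⟨a, ha, rfl⟩ := ha
  obtain ⟨b, hb, rfl⟩ := hb
  have hP : Nat.card P = 27 := by
    rw [← hP1]
    exact Nat.card_congr ((P : Subgroup L).equivMapOfInjective f hfi).toEquiv
  let Q : Subgroup (V ≃ₗ[ZMod 2] V) := (P : Subgroup L).map L.subtype
  have hQ : Nat.card Q = 27 := by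
    rw [← hP]
    exact (Nat.card_congr ((P : Subgroup L).equivMapOfInjective _ L.subtype_injective).toEquiv).symm
  have hQL : Q ≤ L := by
    rintro _ ⟨x, -, rfl⟩
    exact x.2
  have h0 : 0 < h := by have := H.two_le; omega
  obtain ⟨l, hl, k, hk, hk2⟩ := exists_relIndex H.half h0 hm H.le H.nrm Nat.prime_three Q hQL
    (IsPGroup.of_card (n := 3) (by rw [hQ]; norm_num)) hv
  rw [hQ] at hk2
  refine no_vector hV Q hQ ⟨a, ⟨a, ha, rfl⟩, b, ⟨b, hb, rfl⟩, ?_⟩ (u := l v) ?_ ?_
  · intro h1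
    apply hab
    rw [← map_mul, ← map_mul]
    congr 1
    exact Subtype.ext h1
  · exact fun h1 => hv (l.map_eq_zero_iff.1 h1)
  · have hk3 : k ≤ 21 := Nat.le_of_dvd (by norm_num) hk
    generalize Nat.card (MulAction.stabilizer Q (l v)) = s at *
    interval_cases k <;> omega

end Cfsg.Agent.H828.HT.KillU33
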