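import Cfsg.Agent.H828.HT.CoreQL
import Cfsg.Agent.H19.HT.Asm
import Cfsg.Agent.H192.Ht.QLN
import Cfsg.Agent.H337.HT.Big
import Cfsg.Agent.H30.HTS.Small
import Cfsg.Agent.H64.HT.Three
import Cfsg.Agent.H199.HT.KillJTwo
import Cfsg.Agent.H392.HT.SixL34
import Cfsg.Agent.H392.HT.SFacts
import Cfsg.Agent.H933.HT.U43
import Cfsg.Agent.H933.HT.U33T
import Cfsg.Agent.H597.HT12.Twelve

/-!
# S3512, input `RowQ`: quasisimple `L` of order prime to `p`, `p ∣ |G|`
-/

set_option autoImplicit false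
set_option linter.unusedSectionVars false

universe u w

namespace Cfsg.Agent.H828.HT.RowQ

open Cfsg Matrix Cfsg.Agent.H915.LD Cfsg.Agent.H828.HT Cfsg.Agent.H742.HT Cfsg.Agent.H337.HT
open Cfsg.Agent.H192.Ht.QN (card_G_dvd card_quot_dvd_L card_L_dvd card_V two_le_card exists_card finiteK)
open Cfsg.Agent.H192.Ht (half_le)

variable {p : ℕ} [hpp : Fact p.Prime] {K : Type w} [Field K] {V : Type u} [AddCommGroup V] [Module (ZMod p) V]
  [Module K V] [Finite V] {G L : Subgroup (V ≃ₗ[ZMod p] V)} {h : ℕ}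

/-- `QSP → QL` -/
theorem toQL (H : Cfsg.Agent.H19.HT.QSP p K V G L h) : QL p K V G L h :=
  ⟨H.half, H.le, H.nrm, H.perf, H.simple, H.nonab, H.lin, H.endo, H.irr⟩

theorem dvd_aut (H : QL p K V G L h) (hd : p ∣ Nat.card G) : p ∣ Nat.card (MulAut (L ⧸ Subgroup.center L)) := by
  have h1 := hd.trans (card_G_dvd H)
  refine (Nat.Coprime.dvd_of_dvd_mul_left ?_ h1)
  obtain ⟨k, hk, hk0⟩ := exists_card H
  rw [hk]
  rw [Nat.Prime.coprime_iff_not_dvd hpp.out]
  intro h2
  have h3 : p ∣ p ^ k := dvd_pow_self p hk0.ne'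
  have h4 : 1 ≤ p ^ k := Nat.one_le_pow _ _ hpp.out.pos
  have h5 : p ∣ 1 := by
    have := (Nat.dvd_sub h3 h2)
    rwa [Nat.sub_sub_self h4] at this
  exact hpp.out.one_lt.ne' (Nat.dvd_one.1 h5)

theorem coprime (H : QL p K V G L h) (hL : ¬ p ∣ Nat.card L) :
    (Nat.card K).Coprime (Nat.card (L ⧸ Subgroup.center L)) := by
  obtain ⟨k, hk, hk0⟩ := exists_card H
  rw [hk]
  refine Nat.Coprime.pow_left k ?_
  rw [Nat.Prime.coprime_iff_not_dvd hpp.out]
  exact fun h1 => hL (h1.trans (card_quot_dvd_L H))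

theorem cand (H : QL p K V G L h) (h2 : 2 ≤ h) :
    Cand 1 (Nat.card (L ⧸ Subgroup.center L)) (Nat.card (MulAut (L ⧸ Subgroup.center L)))
      (Module.finrank K V) (Nat.card K) := by
  obtain ⟨m, hm, -⟩ := exists_m H.half (Cfsg.Agent.H192.Ht.QN.exists_ne H)
  have h0 : 0 < h := by omega
  refine ⟨m, h, one_dvd _, h2, ?_, ?_, ?_, ?_⟩
  · rw [← card_V H]
    exact dvd_card_sub_one H.half h0 hm
  · rw [hm]
    exact (card_quot_dvd_L H).trans (card_L_dvd H)
  · rw [hm]
    exact card_G_dvd H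
  · rw [← card_V H]
    exact half_le H.half h0 hm

theorem not_dead (H : QL p K V G L h) (h2 : 2 ≤ h) (hL : ¬ p ∣ Nat.card L)
    (hd : Dead (Module.finrank K V) (L ⧸ Subgroup.center L)) : False :=
  hd _ (two_le_card H) (coprime H hL) (cand H h2)

/-! ### The finite list -/

/-- the prime divisors of `|Aut T|` divide `|T|` -/
def Pr (T : Type u) [Group T] : Prop := ∃ k : ℕ, Nat.card (MulAut T) ∣ Nat.card T ^ k

theorem Pr.congr {T T' : Type*} [Group T] [Group T'] (e : T ≃* T') (h : Pr T) : Pr T' := by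
  obtain ⟨k, hk⟩ := h
  refine ⟨k, ?_⟩
  rw [Nat.card_congr (MulAut.congr e).toEquiv, Nat.card_congr e.toEquiv] at hk
  exact hk

theorem Pr.false {T : Type*} [Group T] (h : Pr T) {p : ℕ} (hp : p.Prime) (h1 : p ∣ Nat.card (MulAut T))
    (h2 : ¬ p ∣ Nat.card T) : False := by
  obtain ⟨k, hk⟩ := h
  exact h2 (hp.dvd_of_dvd_pow (h1.trans hk))

theorem pr_of {T : Type*} [Group T] {o A : ℕ} (ho : Nat.card T = o) (hA : Nat.card (MulAut T) = A) (k : ℕ)
    (h : A ∣ o ^ k) : Pr T := ⟨k, by rw [ho, hA]; exact h⟩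

theorem pr_alt {T : Type*} [Group T] {m : ℕ} (h5 : 5 ≤ m) (e : T ≃* alternatingGroup (Fin m)) : Pr T := by
  have h2 := H659.HerAlt.two_mul_card (c := m) (by omega)
  rw [← Nat.card_congr e.toEquiv] at h2
  have h4 : 4 ∣ m.factorial := Nat.dvd_factorial (by norm_num) (by omega)
  have h2' : 2 ∣ Nat.card T := by omega
  by_cases h6 : m = 6
  · subst h6
    refine ⟨2, ?_⟩
    have h1 : Nat.card (MulAut T) ∣ 1440 := by
      rw [Nat.card_congr (MulAut.congr e).toEquiv]; exact H392.HT.card_mulAut_A6_dvd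
    have h3 : Nat.card T = 360 := by
      rw [show Nat.factorial 6 = 720 from rfl] at h2
      omega
    rw [h3]
    exact h1.trans (by norm_num)
  · refine ⟨2, ?_⟩
    rw [H392.HT.card_mulAut_alt (by omega) h6 e, ← h2, pow_two]
    exact Nat.mul_dvd_mul_right h2' _

theorem pr_l27 {T : Type u} [Group T] (hT : H912.Bd.IsL 2 7 T) : Pr T := by
  obtain ⟨K, _, _, hK, ⟨e⟩⟩ := hT
  have : Fact (Nat.Prime 7) := ⟨by norm_num⟩
  have h1 := H64.HTCop.card_l2 hK
  have h2 := H64.HTCop.card_pgl2 hK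
  have h3 := S0813.result (F := K) 7 1 le_rfl (by rw [hK]; norm_num) 2 le_rfl (fun _ => by norm_num)
  have h4 : Nat.card (ProjectiveSpecialLinearGroup (Fin 2) K) = 168 := by
    generalize Nat.card (ProjectiveSpecialLinearGroup (Fin 2) K) = N at h1 ⊢
    norm_num at h1
    omega
  have h5 : Nat.card (MulAut (ProjectiveSpecialLinearGroup (Fin 2) K)) = 336 := by
    rw [if_pos rfl] at h3
    rw [h3]
    generalize Nat.card (ProjGenLinGroup (Fin 2) K) = N at h2 ⊢
    norm_num at h2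
    omega
  exact (pr_of h4 h5 2 (by norm_num)).congr e.symm

theorem pr_l213 {T : Type u} [Group T] (hT : H912.Bd.IsL 2 13 T) : Pr T := by
  obtain ⟨K, _, _, hK, ⟨e⟩⟩ := hT
  have : Fact (Nat.Prime 13) := ⟨by norm_num⟩
  have h1 := H64.HTCop.card_l2 hK
  have h2 := H64.HTCop.card_pgl2 hK
  have h3 := S0813.result (F := K) 13 1 le_rfl (by rw [hK]; norm_num) 2 le_rfl (fun _ => by norm_num)
  have h4 : Nat.card (ProjectiveSpecialLinearGroup (Fin 2) K) = 1092 := by
    generalize Nat.card (ProjectiveSpecialLinearGroup (Fin 2) K) = N at h1 ⊢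
    norm_num at h1
    omega
  have h5 : Nat.card (MulAut (ProjectiveSpecialLinearGroup (Fin 2) K)) = 2184 := by
    rw [if_pos rfl] at h3
    rw [h3]
    generalize Nat.card (ProjGenLinGroup (Fin 2) K) = N at h2 ⊢
    norm_num at h2
    omega
  exact (pr_of h4 h5 2 (by norm_num)).congr e.symm

theorem pr_l225 {T : Type u} [Group T] (hT : H912.Bd.IsL 2 25 T) : Pr T := by
  obtain ⟨K, _, _, hK, ⟨e⟩⟩ := hT
  exact (pr_of (H597.HT12.card_psl hK) (H597.HT12.card_aut_psl hK) 3 (by norm_num)).congr e.symm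

theorem pr_u34 {T : Type u} [Group T] (hT : H912.Bd.IsU 3 4 T) : Pr T := by
  obtain ⟨K, _, _, hK, ⟨e⟩⟩ := hT
  exact (pr_of (H597.HT12.card_psu (by rw [hK])) (H597.HT12.card_aut_psu (by rw [hK])) 3 (by norm_num)).congr e.symm

theorem pr_u33 {T : Type u} [Group T] (hT : H912.Bd.IsU 3 3 T) : Pr T := by
  obtain ⟨K, _, _, hK, ⟨e⟩⟩ := hT
  have h : Nat.card (PSU 3 K 3) = 6048 := by
    have h1 := S0280.result (F := K) (q := 3) (by rw [hK]) 3 (by norm_num)
    generalize Nat.card (PSU 3 K 3) = N at h1 ⊢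
    norm_num [Finset.prod_range_succ, Nat.even_iff] at h1
    omega
  exact (pr_of h (H933.HT.u33_aut (by rw [hK])) 3 (by norm_num)).congr e.symm

theorem pr_u43 {T : Type u} [Group T] (hT : H912.Bd.IsU 4 3 T) : Pr T := by
  obtain ⟨K, _, _, hK, ⟨e⟩⟩ := hT
  exact (pr_of (H933.HT.u43_card (by rw [hK])) (H933.HT.u43_aut (by rw [hK])) 3 (by norm_num)).congr e.symm

theorem pr_u42 {T : Type u} [Group T] (hT : H912.Bd.IsU 4 2 T) : Pr T := by
  obtain ⟨K, _, _, hK, ⟨e⟩⟩ := hT
  have h := H64.HTCop.card_u42 (K := K) (by rw [hK])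
  have h2 : Nat.card (MulAut (PSU 4 K 2)) = 51840 := by
    have : Fact (Nat.Prime 2) := ⟨Nat.prime_two⟩
    have h1 := S0815.result (F := K) 2 1 le_rfl (q := 2) (by norm_num) (by rw [hK]) 4 (by norm_num) (by norm_num)
    rw [h1, h]
    norm_num
  exact (pr_of h h2 3 (by norm_num)).congr e.symm

theorem pr_l34 {T : Type u} [Group T] (hT : H912.Bd.IsL 3 4 T) : Pr T := by
  obtain ⟨h1, h2, -⟩ := H392.HT.l34 hT
  exact pr_of h1 h2 2 (by norm_num)

theorem pr_j2 {T : Type u} [Group T] (hT : Spor.IsoJ2 T) (hc : Subgroup.center T = ⊥) : Pr T := by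
  have h1 : Nat.card T = 604800 := by
    obtain ⟨e⟩ := hT
    rw [Nat.card_congr e.toEquiv, Cfsg.Agent.J2Sylow.SporSylow.card_J2]
  exact pr_of h1 (H199.HT.card_aut hT hc) 2 (by norm_num)

/-! ### Degree two -/

theorem pr_l25 : Pr (ProjectiveSpecialLinearGroup (Fin 2) (ZMod 5)) := by
  have : Fact (Nat.Prime 5) := ⟨by norm_num⟩
  have hK : Fintype.card (ZMod 5) = 5 := ZMod.card 5
  have h1 := H64.HTCop.card_l2 hK
  have h2 := H64.HTCop.card_pgl2 hK
  have h3 := S0813.result (F := ZMod 5) 5 1 le_rfl (by rw [hK]; norm_num) 2 le_rfl (fun _ => by norm_num)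
  have h4 : Nat.card (ProjectiveSpecialLinearGroup (Fin 2) (ZMod 5)) = 60 := by
    generalize Nat.card (ProjectiveSpecialLinearGroup (Fin 2) (ZMod 5)) = N at h1 ⊢
    norm_num at h1
    omega
  have h5 : Nat.card (MulAut (ProjectiveSpecialLinearGroup (Fin 2) (ZMod 5))) = 120 := by
    rw [if_pos rfl] at h3
    rw [h3]
    generalize Nat.card (ProjGenLinGroup (Fin 2) (ZMod 5)) = N at h2 ⊢
    norm_num at h2
    omega
  exact pr_of h4 h5 2 (by norm_num)

open Cfsg.Agent.PermutationGroups.AutSL25 in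
/-- degree two: `SL₂(5)` -/
theorem two {K : Type u} [Field K] [Module K V] (H : QL p K V G L h) (hL : ¬ p ∣ Nat.card L)
    (hn : Module.finrank K V = 2) : Pr (L ⧸ Subgroup.center L) := by
  obtain ⟨v, hv⟩ := Cfsg.Agent.H192.Ht.QN.exists_ne H
  have hnt : Nontrivial V := ⟨⟨v, 0, hv⟩⟩
  have hsr := Cfsg.Agent.H960.HT.semireg_of_two (K := K) H.lin H.perf hL hn
  have hfpf := Cfsg.Agent.H960.HT.fpf_of_semireg L (fun g hg v hv hgv => hsr g hg v hv hgv)
  have htop : ⁅(⊤ : Subgroup L), ⊤⁆ = ⊤ := H.perf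
  have htne : (⊤ : Subgroup L) ≠ ⊥ := by
    intro hb
    obtain ⟨a, ha, b, hb', hab⟩ := H.nonab
    have h1 : ∀ x : L, x = 1 := fun x => by
      have : x ∈ (⊤ : Subgroup L) := trivial
      rwa [hb, Subgroup.mem_bot] at this
    apply hab
    have ha1 := congrArg Subtype.val (h1 ⟨a, ha⟩)
    have hb1 := congrArg Subtype.val (h1 ⟨b, hb'⟩)
    change a = 1 at ha1
    change b = 1 at hb1
    rw [ha1, hb1]
  obtain ⟨e⟩ := hfpf.perfect ⊤ htop htne
  have e' : L ≃* SL25 := Subgroup.topEquiv.symm.trans e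
  have f : L ⧸ Subgroup.center L ≃* SL25 ⧸ Subgroup.center SL25 := by
    refine QuotientGroup.congr (Subgroup.center L) (Subgroup.center SL25) e' ?_
    ext x
    constructor
    · rintro ⟨z, hz, rfl⟩
      rw [Subgroup.mem_center_iff]
      intro y
      obtain ⟨w, rfl⟩ := e'.surjective y
      change e' w * e' z = e' z * e' w
      rw [← map_mul, ← map_mul, Subgroup.mem_center_iff.1 hz w]
    · intro hx
      refine ⟨e'.symm x, ?_, e'.apply_symm_apply x⟩
      change e'.symm x ∈ Subgroup.center L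
      rw [Subgroup.mem_center_iff] at hx ⊢
      intro y
      apply e'.injective
      rw [map_mul, map_mul, e'.apply_symm_apply, hx]
  exact Pr.congr (T := ProjectiveSpecialLinearGroup (Fin 2) (ZMod 5)) f.symm pr_l25

/-- the characteristic of `K` -/
theorem charP (H : QL p K V G L h) : CharP K p := by
  obtain ⟨v, hv⟩ := Cfsg.Agent.H192.Ht.QN.exists_ne H
  have h1 : (p : K) = 0 := by
    have h2 : (p : ℕ) • v = 0 := by
      rw [← Nat.cast_smul_eq_nsmul (ZMod p), ZMod.natCast_self, zero_smul]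
    rw [← Nat.cast_smul_eq_nsmul K] at h2
    exact (smul_eq_zero.1 h2).resolve_right hv
  obtain ⟨r, hr⟩ := CharP.exists K
  have h3 : r ∣ p := (CharP.cast_eq_zero_iff K r p).1 h1
  rcases (Nat.dvd_prime hpp.out).1 h3 with rfl | rfl
  · exact absurd rfl (CharP.char_ne_one K 1)
  · exact hr

theorem comm_congr {S T : Type*} [Group S] [Group T] (e : S ≃* T) (h : IsMulCommutative S) : IsMulCommutative T :=
  ⟨⟨fun a b => by
    apply e.symm.injective
    rw [map_mul, map_mul]
    exact h.is_comm.comm _ _⟩⟩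

theorem not_prime {S : Type*} [Group S] (h : ¬ IsMulCommutative S) : ¬ (Nat.card S).Prime := by
  intro hp
  have : Fact (Nat.card S).Prime := ⟨hp⟩
  have hc : IsCyclic S := isCyclic_of_prime_card rfl
  exact h IsCyclic.isMulCommutative

theorem center_bot {S : Type*} [Group S] (hs : IsSimpleGroup S) (h : ¬ IsMulCommutative S) :
    Subgroup.center S = ⊥ := by
  rcases IsSimpleGroup.eq_bot_or_eq_top_of_normal (Subgroup.center S) inferInstance with h1 | h1
  · exact h1
  · exact absurd ⟨⟨fun a b => (Subgroup.mem_center_iff.1 (by rw [h1]; trivial : b ∈ Subgroup.center S) a)⟩⟩ h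

/-- **The input `rowQ` of S3512.** -/
theorem row {K : Type u} [Field K] [Module K V] (H : QL p K V G L h) (h2 : 2 ≤ h) (hd : p ∣ Nat.card G)
    (hL : ¬ p ∣ Nat.card L) (hk : IsKnownSimple' (L ⧸ Subgroup.center L)) : False := by
  have hT : ¬ p ∣ Nat.card (L ⧸ Subgroup.center L) := fun h1 => hL (h1.trans (card_quot_dvd_L H))
  have hA := dvd_aut H hd
  have fin : Pr (L ⧸ Subgroup.center L) → False := fun h1 => h1.false hpp.out hA hT
  set n := Module.finrank K V with hn
  have hn2 : 2 ≤ n := Cfsg.Agent.H192.Ht.QN.two_le_finrank H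
  by_cases e2 : n = 2
  · exact fin (two H hL (hn ▸ e2))
  obtain ⟨F, P, -, -, hC, ⟨e⟩, -⟩ := CoreQL.exists_core H hn.symm
  have hfK := finiteK H
  have hchK := charP H
  have hCF : CharP F p := (algebraMap F K).charP (algebraMap F K).injective p
  have hs : IsSimpleGroup (Soc P) := hC.simple
  have hna : ¬ IsMulCommutative (L ⧸ Subgroup.center L) := fun hc =>
    hC.nonabelian (comm_congr e.symm hc)
  have hk' : IsKnownSimple' (Soc P) := OddHalf.Known.isKnownSimple'_congr e.symm hna hk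
  have hp' : ¬ p ∣ Nat.card (Soc P) := by rwa [Nat.card_congr e.toEquiv]
  have dd : Dead n (Soc P) → False := fun h1 => not_dead H h2 hL (h1.congr e)
  have pp : Pr (Soc P) → False := fun h1 => fin (h1.congr e)
  rcases Nat.lt_or_ge n 13 with h13 | h13
  · by_cases e3 : n = 3
    · clear_value n
      subst e3
      rcases H64.HTCop.three_cop hC hk' hp' with ⟨⟨f⟩⟩ | ⟨⟨f⟩⟩ | f
      · exact pp (pr_alt (by norm_num) f)
      · exact pp (pr_alt (by norm_num) f)
      · exact pp (pr_l27 f)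
    by_cases e4 : n = 4
    · clear_value n
      subst e4
      rcases H64.HTCop.four_cop hC hk' hp' with ⟨⟨f⟩⟩ | ⟨⟨f⟩⟩ | ⟨⟨f⟩⟩ | f | f
      · exact pp (pr_alt (by norm_num) f)
      · exact pp (pr_alt (by norm_num) f)
      · exact pp (pr_alt (by norm_num) f)
      · exact pp (pr_l27 f)
      · exact pp (pr_u42 f)
    by_cases e6 : n = 6
    · clear_value n
      subst e6
      rcases H64.HTCop.six_cop hC hk' hp' with f | ⟨⟨f⟩⟩ | f | f | f | f | f | f
      · exact dd f
      · exact pp (pr_alt (by norm_num) f)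
      · exact pp (pr_l27 f)
      · exact pp (pr_l213 f)
      · exact pp (pr_u33 f)
      · exact pp (pr_l34 f)
      · exact pp (pr_j2 f (center_bot hs hC.nonabelian))
      · exact pp (pr_u43 f)
    rcases H30.HTS.small hC (by omega) hk' hp' e6 (by omega) with f | ⟨-, f | f⟩
    · exact dd f
    · exact pp (pr_l225 f)
    · exact pp (pr_u34 f)
  · rcases dead_big hC h13 hp' hk' (not_prime hC.nonabelian) with h1 | ⟨m, hm, ⟨f⟩⟩
    · exact dd h1
    · exact pp (pr_alt (by omega) f)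

/-- **`rowQ`**, from the classification -/
theorem rowQ (known : ∀ (T : Type u) [Group T] [Finite T] [IsSimpleGroup T], IsKnownSimple' T) :
    Cfsg.Agent.H19.HT.RowQ.{u} := by
  intro p _ V _ _ _ K _ _ G L h H hL
  have := H.simple
  exact row (toQL H) H.two_le H.dvd hL (known _)

end Cfsg.Agent.H828.HT.RowQ
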