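import Cfsg.Agent.H267.HT.MinField
import Cfsg.Agent.H742.HT.QL

/-!
# S3512: the core of a quasisimple row (`H267.HT.TOne` without coprimality)
-/

set_option autoImplicit false
set_option linter.unusedSectionVars false

namespace Cfsg.Agent.H828.HT.CoreQL

open Cfsg Cfsg.Geo Matrix Cfsg.Agent.H915.LD Cfsg.Agent.H828.HT Cfsg.Agent.H742.HT Cfsg.Agent.H267.HT

universe u w

variable {p : ℕ} [hpp : Fact p.Prime] {K : Type w} [Field K] {V : Type u} [AddCommGroup V] [Module (ZMod p) V]
  [Module K V] [Finite V] {G L : Subgroup (V ≃ₗ[ZMod p] V)} {h : ℕ}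

theorem exists_ne_zero (H : QL p K V G L h) : ∃ v : V, v ≠ 0 := by
  obtain ⟨a, ha, b, hb, hab⟩ := H.nonab
  by_contra hV
  push Not at hV
  apply hab
  apply LinearEquiv.ext
  intro v
  rw [hV ((a * b) v), hV ((b * a) v)]

/-- `K` is finite -/
theorem finite_K (H : QL p K V G L h) : Finite K := by
  obtain ⟨v, hv⟩ := exists_ne_zero H
  exact Finite.of_injective (fun c : K => c • v) (smul_left_injective K hv)

/-- the elements of `L` as `K`-linear maps -/
def toEnd (H : QL p K V G L h) : L →* Module.End K V where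
  toFun l :=
    { toFun := fun v => (l : V ≃ₗ[ZMod p] V) v
      map_add' := fun x y => map_add _ x y
      map_smul' := fun c v => H.lin l l.2 c v }
  map_one' := rfl
  map_mul' _ _ := rfl

theorem toEnd_apply (H : QL p K V G L h) (l : L) (v : V) : toEnd H l v = (l : V ≃ₗ[ZMod p] V) v := rfl

/-- the matrices of the elements of `L` in a `K`-basis -/
noncomputable def rho (H : QL p K V G L h) {n : ℕ} (b : Module.Basis (Fin n) K V) : L →* GL (Fin n) K :=
  ((LinearMap.toMatrixAlgEquiv b).toAlgHom.toRingHom.toMonoidHom.comp (toEnd H)).toHomUnits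

theorem rho_coe (H : QL p K V G L h) {n : ℕ} (b : Module.Basis (Fin n) K V) (l : L) :
    ((rho H b l : GL (Fin n) K) : Matrix (Fin n) (Fin n) K) = LinearMap.toMatrix b b (toEnd H l) := rfl

theorem rho_mulVec (H : QL p K V G L h) {n : ℕ} (b : Module.Basis (Fin n) K V) (l : L) (v : V) :
    ((rho H b l : GL (Fin n) K) : Matrix (Fin n) (Fin n) K) *ᵥ (b.repr v) = b.repr ((l : V ≃ₗ[ZMod p] V) v) := by
  rw [rho_coe, LinearMap.toMatrix_mulVec_repr, toEnd_apply]

theorem rho_injective (H : QL p K V G L h) {n : ℕ} (b : Module.Basis (Fin n) K V) : Function.Injective (rho H b) := by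
  intro l l' hl
  apply Subtype.ext
  apply LinearEquiv.ext
  intro v
  apply b.repr.injective
  apply DFunLike.coe_injective
  rw [← rho_mulVec H b l v, ← rho_mulVec H b l' v, hl]

/-- absolute irreducibility -/
theorem rho_absIrr (H : QL p K V G L h) {n : ℕ} (b : Module.Basis (Fin n) K V) :
    ActsAbsolutelyIrreducibly (matrixSet (rho H b).range) := by
  classical
  refine ⟨fun W hW => ?_, fun M hM => ?_⟩
  · let W' : Submodule K V := W.comap (b.equivFun : V →ₗ[K] (Fin n → K))
    have hmem : ∀ v, v ∈ W' ↔ (⇑(b.repr v) : Fin n → K) ∈ W := fun v => Iff.rfl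
    let W'' : Submodule (ZMod p) V := AddSubgroup.toZModSubmodule p W'.toAddSubgroup
    have hmem' : ∀ v, v ∈ W'' ↔ v ∈ W' := fun v => Iff.rfl
    have hst : ∀ l ∈ L, ∀ v ∈ W'', l v ∈ W'' := by
      intro l hl v hv
      rw [hmem', hmem] at hv ⊢
      rw [← rho_mulVec H b ⟨l, hl⟩ v, ← Matrix.toLin'_apply]
      exact hW _ ⟨_, ⟨⟨l, hl⟩, rfl⟩, rfl⟩ (Submodule.mem_map_of_mem hv)
    rcases H.irr W'' hst with h1 | h1
    · left
      rw [Submodule.eq_bot_iff]
      intro x hx
      have h2 : b.equivFun.symm x ∈ W'' := by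
        rw [hmem', hmem]
        show b.equivFun (b.equivFun.symm x) ∈ W
        rwa [LinearEquiv.apply_symm_apply]
      rw [h1, Submodule.mem_bot] at h2
      rw [← b.equivFun.apply_symm_apply x, h2, map_zero]
    · right
      rw [Submodule.eq_top_iff']
      intro x
      have h2 : b.equivFun.symm x ∈ W'' := by rw [h1]; trivial
      rw [hmem', hmem] at h2
      have h3 : b.equivFun (b.equivFun.symm x) ∈ W := h2
      rwa [LinearEquiv.apply_symm_apply] at h3
  · let f : V →ₗ[K] V := Matrix.toLin b b M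
    have hf : ∀ v, (⇑(b.repr (f v)) : Fin n → K) = M *ᵥ (b.repr v) := by
      intro v
      rw [← LinearMap.toMatrix_mulVec_repr b b f v, LinearMap.toMatrix_toLin]
    let f' : V →ₗ[ZMod p] V := f.toAddMonoidHom.toZModLinearMap p
    have hf' : ∀ v, f' v = f v := fun v => rfl
    obtain ⟨c, hc⟩ := H.endo f' (by
      intro l hl v
      rw [hf', hf']
      apply b.repr.injective
      apply DFunLike.coe_injective
      show (⇑(b.repr (f (l v))) : Fin n → K) = ⇑(b.repr (l (f v)))
      rw [hf]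
      have h1 := rho_mulVec H b ⟨l, hl⟩ v
      have h2 := rho_mulVec H b ⟨l, hl⟩ (f v)
      have h3 : (⇑(b.repr (l v)) : Fin n → K) = ((rho H b ⟨l, hl⟩ : GL (Fin n) K) : Matrix (Fin n) (Fin n) K) *ᵥ (b.repr v) :=
        h1.symm
      have h4 : (⇑(b.repr (l (f v))) : Fin n → K) =
          ((rho H b ⟨l, hl⟩ : GL (Fin n) K) : Matrix (Fin n) (Fin n) K) *ᵥ (b.repr (f v)) := h2.symm
      rw [h3, h4, hf, Matrix.mulVec_mulVec, Matrix.mulVec_mulVec, hM _ ⟨_, ⟨⟨l, hl⟩, rfl⟩, rfl⟩])
    refine ⟨c, ?_⟩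
    have h5 : f = c • (1 : V →ₗ[K] V) := by
      apply LinearMap.ext
      intro v
      exact hc v
    have h6 : LinearMap.toMatrix b b f = M := LinearMap.toMatrix_toLin b b M
    rw [← h6, h5, map_smul]
    congr 1
    exact LinearMap.toMatrix_one b

/-- **T1.** -/
theorem exists_core (H : QL p K V G L h) {n : ℕ} (hn : Module.finrank K V = n) :
    ∃ (F : Subfield K) (P : Subgroup (GL (Fin n) F)) (e : P ≃* L) (b : Module.Basis (Fin n) K V),
      Core P ∧ Nonempty (Soc P ≃* L ⧸ Subgroup.center L) ∧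
      ∀ (x : P) (v : V), (⇑(b.repr ((e x : V ≃ₗ[ZMod p] V) v)) : Fin n → K) =
        ((inc F (x : GL (Fin n) F) : GL (Fin n) K) : Matrix (Fin n) (Fin n) K) *ᵥ (b.repr v) := by
  classical
  have hKf : Finite K := finite_K H
  have hVK : Module.Finite K V := Module.Finite.of_finite
  obtain ⟨v, hv⟩ := exists_ne_zero H
  have hnt : Nontrivial V := ⟨⟨v, 0, hv⟩⟩
  have hn0 : NeZero n := ⟨by
    rw [← hn]
    exact (Module.finrank_pos (R := K) (M := V)).ne'⟩
  let b := Module.finBasisOfFinrankEq K V hn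
  obtain ⟨F, σ, B, hσ, hC, hS, hB⟩ := exists_core_of_rep H.perf H.simple (by
    obtain ⟨a, ha, c, hc, hac⟩ := H.nonab
    exact ⟨⟨a, ha⟩, ⟨c, hc⟩, fun h1 => hac (congrArg Subtype.val h1)⟩) (rho_injective H b) (rho_absIrr H b)
  let e : L ≃* σ.range := MonoidHom.ofInjective hσ
  let Be : (Fin n → K) ≃ₗ[K] (Fin n → K) := Matrix.toLin'OfInv (M' := (B : Matrix (Fin n) (Fin n) K))
    (M := ((B⁻¹ : GL (Fin n) K) : Matrix (Fin n) (Fin n) K))
    (by rw [← Units.val_mul, inv_mul_cancel, Units.val_one]) (by rw [← Units.val_mul, mul_inv_cancel, Units.val_one])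
  let b' : Module.Basis (Fin n) K V := Module.Basis.ofEquivFun (b.equivFun.trans Be)
  have hb' : ∀ v : V, (⇑(b'.repr v) : Fin n → K) = (B : Matrix (Fin n) (Fin n) K) *ᵥ (b.repr v) := by
    intro v
    have h1 : b'.equivFun v = Be (b.equivFun v) := by
      show (Module.Basis.ofEquivFun (b.equivFun.trans Be)).equivFun v = _
      rw [Module.Basis.equivFun_ofEquivFun]
      rfl
    have h2 : Be (b.equivFun v) = (B : Matrix (Fin n) (Fin n) K) *ᵥ (b.equivFun v) :=
      Matrix.toLin'_apply (B : Matrix (Fin n) (Fin n) K) (b.equivFun v)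
    exact h1.trans h2
  refine ⟨F, σ.range, e.symm, b', hC, hS, fun x v => ?_⟩
  obtain ⟨l, rfl⟩ := e.surjective x
  have h1 : ((e l : σ.range) : GL (Fin n) F) = σ l := rfl
  rw [e.symm_apply_apply, h1, hB, hb', hb', ← rho_mulVec H b l v, Units.val_mul, Units.val_mul,
    Matrix.mulVec_mulVec, Matrix.mulVec_mulVec]
  congr 1
  rw [Matrix.mul_assoc, Matrix.mul_assoc, ← Units.val_mul B⁻¹ B, inv_mul_cancel, Units.val_one, Matrix.mul_one]

end Cfsg.Agent.H828.HT.CoreQL
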